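import Mathlib

/-!
Elementary simplicity criteria for permutation groups, used for the Mathieu groups:
a Sylow normaliser of order `p * q`, and a simple point stabiliser in a 2-transitive group.
-/

set_option autoImplicit false

namespace Cfsg.Agent.Sharply

open scoped Pointwise
open MulAction

/-- In a faithful action on `p` points, the normaliser of a subgroup of order `p` has order
dividing `p * (p - 1)`. -/
theorem card_normalizer_dvd_of_prime_degree {G α : Type*} [Group G] [MulAction G α]
    [FaithfulSMul G α] [Finite α] {p : ℕ} (hp : p.Prime) (hα : Nat.card α = p)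
    (P : Subgroup G) (hP : Nat.card P = p) :
    Nat.card (Subgroup.normalizer (P : Set G)) ∣ p * (p - 1) := by
  have : Fact p.Prime := ⟨hp⟩
  have : Finite G := Finite.of_injective (fun g : G => fun a : α => g • a)
    fun g h e => eq_of_smul_eq_smul (fun a => congrFun e a)
  have hcyc : IsCyclic P := isCyclic_of_prime_card hP
  obtain ⟨g, hgP, hg1⟩ : ∃ g ∈ P, g ≠ 1 := by
    have : Nontrivial P := Finite.one_lt_card_iff_nontrivial.mp (hP ▸ hp.one_lt)
    obtain ⟨⟨g, hg⟩, hne⟩ := exists_ne (1 : P)
    exact ⟨g, hg, fun e => hne (Subtype.ext e)⟩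
  obtain ⟨a, ha⟩ : ∃ a : α, g • a ≠ a := by
    by_contra hall
    push Not at hall
    exact hg1 (eq_of_smul_eq_smul (α := α) fun a => by rw [hall a, one_smul])
  -- the orbit of a under P is everything
  have horb : ∀ b : α, ∃ u ∈ P, u • a = b := by
    have hdvd : Nat.card (orbit P a) ∣ Nat.card P := by
      rw [Nat.card_congr (orbitEquivQuotientStabilizer P a)]
      exact Subgroup.card_quotient_dvd_card _
    rw [hP] at hdvd
    have hne1 : Nat.card (orbit P a) ≠ 1 := by
      intro h1
      obtain ⟨hs, -⟩ := Nat.card_eq_one_iff_unique.mp h1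
      have : (⟨g • a, ⟨⟨g, hgP⟩, rfl⟩⟩ : orbit P a) = ⟨a, mem_orbit_self a⟩ :=
        Subsingleton.elim _ _
      exact ha (congrArg Subtype.val this)
    have hcard : Nat.card (orbit P a) = p := ((Nat.dvd_prime hp).mp hdvd).resolve_left hne1
    intro b
    have huniv : orbit P a = Set.univ := by
      apply Set.eq_of_subset_of_ncard_le (Set.subset_univ _)
      rw [Set.ncard_univ, hα, ← Nat.card_coe_set_eq, hcard]
    obtain ⟨⟨u, hu⟩, rfl⟩ : b ∈ orbit P a := by rw [huniv]; trivial
    exact ⟨u, hu, rfl⟩
  let φ := Subgroup.normalizerMonoidHom P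
  have hker : ∀ c : φ.ker, ∀ u ∈ P, (c.1 : G) * u = u * c.1 := by
    intro c u hu
    have h1 := DFunLike.congr_fun (MonoidHom.mem_ker.mp c.2) ⟨u, hu⟩
    have h2 : (c.1 : G) * u * (c.1 : G)⁻¹ = u := congrArg Subtype.val h1
    exact mul_inv_eq_iff_eq_mul.mp h2
  have hkle : Nat.card φ.ker ≤ p := by
    rw [← hα]
    refine Nat.card_le_card_of_injective (fun c : φ.ker => (c.1 : G) • a) ?_
    intro c d e
    apply Subtype.ext
    apply Subtype.ext
    apply eq_of_smul_eq_smul (α := α)
    intro b
    obtain ⟨u, hu, rfl⟩ := horb b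
    rw [← mul_smul, ← mul_smul, hker c u hu, hker d u hu, mul_smul, mul_smul]
    exact congrArg (u • ·) e
  have hkdvd : Nat.card φ.ker = p := by
    apply le_antisymm hkle
    rw [← hP]
    refine Nat.card_le_card_of_injective
      (fun u : P => (⟨⟨u.1, Subgroup.le_normalizer u.2⟩, ?_⟩ : φ.ker)) ?_
    · rw [MonoidHom.mem_ker]
      ext v
      show u.1 * v.1 * u.1⁻¹ = v.1
      have := (IsCyclic.isMulCommutative (α := P)).is_comm.comm u v
      rw [show u.1 * v.1 = v.1 * u.1 from congrArg Subtype.val this, mul_inv_cancel_right]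
    · intro u v e
      exact Subtype.ext (congrArg (fun t : φ.ker => (t.1 : G)) e)
  have haut : Nat.card (MulAut P) = p - 1 := by
    rw [IsCyclic.card_mulAut P, hP, Nat.totient_prime hp]
  rw [← Subgroup.index_mul_card φ.ker, Subgroup.index_ker, hkdvd, mul_comm p (p - 1)]
  exact Nat.mul_dvd_mul_right (haut ▸ Subgroup.card_subgroup_dvd_card _) p

/-- A group whose nontrivial normal subgroups have order divisible by `p`, with a Sylow
`p`-subgroup of order `p` whose normaliser has order `p * q`, is simple. -/
theorem isSimpleGroup_of_normalizer_card {G : Type*} [Group G] [Finite G] {p q : ℕ}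
    (hp : p.Prime) (hq : q.Prime) (hsq : ¬ p ^ 2 ∣ Nat.card G) (hne : Nat.card G ≠ p * q)
    (hN : ∀ N : Subgroup G, N.Normal → N ≠ ⊥ → p ∣ Nat.card N)
    (hnorm : ∀ P : Sylow p G, Nat.card (Subgroup.normalizer ((P : Subgroup G) : Set G)) = p * q) :
    IsSimpleGroup G := by
  have : Fact p.Prime := ⟨hp⟩
  obtain ⟨P₀⟩ : Nonempty (Sylow p G) := inferInstance
  have : Nontrivial G := by
    refine not_subsingleton_iff_nontrivial.mp fun hs => ?_
    have h1 := hnorm P₀
    rw [Nat.card_unique] at h1
    have := Nat.mul_le_mul hp.two_le hq.two_le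
    omega
  refine IsSimpleGroup.mk fun N hNn => or_iff_not_imp_left.mpr fun hNb => ?_
  have hpN := hN N hNn hNb
  have hpG : p ∣ Nat.card G := hpN.trans (Subgroup.card_subgroup_dvd_card N)
  obtain ⟨Q⟩ : Nonempty (Sylow p N) := inferInstance
  -- the image of Q is a Sylow subgroup of G
  let Q' : Subgroup G := (Q : Subgroup N).map N.subtype
  have hQ' : Nat.card Q' = p := by
    obtain ⟨k, hk⟩ := Q.2.exists_card_eq
    have h1 : p ∣ Nat.card (Q : Subgroup N) := Q.dvd_card_of_dvd_card hpN
    have h2 : Nat.card (Q : Subgroup N) ∣ Nat.card G :=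
      (Subgroup.card_subgroup_dvd_card _).trans (Subgroup.card_subgroup_dvd_card N)
    rw [Subgroup.card_map_of_injective N.subtype_injective, hk]
    rw [hk] at h1 h2
    rcases k with - | - | k
    · simp [hp.ne_one] at h1
    · simp
    · exact absurd ((pow_dvd_pow p (by omega)).trans h2) hsq
  have hQpg : IsPGroup p Q' := IsPGroup.of_card (n := 1) (by rw [hQ', pow_one])
  obtain ⟨P, hPQ⟩ := hQpg.exists_le_sylow
  have hPcard : Nat.card (P : Subgroup G) = p := by
    obtain ⟨k, hk⟩ := P.2.exists_card_eq
    have h1 : p ∣ Nat.card (P : Subgroup G) := P.dvd_card_of_dvd_card hpG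
    have h2 : Nat.card (P : Subgroup G) ∣ Nat.card G := Subgroup.card_subgroup_dvd_card _
    rw [hk] at h1 h2 ⊢
    rcases k with - | - | k
    · simp [hp.ne_one] at h1
    · simp
    · exact absurd ((pow_dvd_pow p (by omega)).trans h2) hsq
  have hQP : Q' = P := Subgroup.eq_of_le_of_card_ge hPQ (by rw [hQ', hPcard])
  have hfrat : Subgroup.normalizer ((P : Subgroup G) : Set G) ⊔ N = ⊤ := by
    have := Sylow.normalizer_sup_eq_top (N := N) Q
    rw [show Q.map N.subtype = (P : Subgroup G) from hQP] at this
    exact this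
  let R := Subgroup.normalizer ((P : Subgroup G) : Set G)
  have hPR : (P : Subgroup G) ≤ R := Subgroup.le_normalizer
  have hPN : (P : Subgroup G) ≤ N := by rw [← hQP]; exact Subgroup.map_subtype_le _
  have hdvd : Nat.card (R ⊓ N : Subgroup G) ∣ p * q := by
    rw [← hnorm P]; exact Subgroup.card_dvd_of_le inf_le_left
  have hpd : p ∣ Nat.card (R ⊓ N : Subgroup G) := by
    rw [← hPcard]; exact Subgroup.card_dvd_of_le (le_inf hPR hPN)
  obtain ⟨e, he⟩ := hpd
  rw [he] at hdvd
  rcases (Nat.dvd_prime hq).mp (Nat.dvd_of_mul_dvd_mul_left hp.pos hdvd) with rfl | rfl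
  swap
  · -- the normaliser lies in N
    have : R ⊓ N = R := Subgroup.eq_of_le_of_card_ge inf_le_left (by rw [he, hnorm P])
    rw [← hfrat, eq_comm, sup_eq_right]
    exact (inf_eq_left.mp this)
  · exfalso
    rw [mul_one] at he
    have hRN : R ⊓ N = P :=
      (Subgroup.eq_of_le_of_card_ge (le_inf hPR hPN) (by rw [he, hPcard])).symm
    have hQcard : Nat.card (Q : Subgroup N) = p :=
      (Nat.card_congr
        (Subgroup.equivMapOfInjective (Q : Subgroup N) N.subtype N.subtype_injective).toEquiv).trans hQ'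
    have hQnc : Subgroup.normalizer ((Q : Subgroup N) : Set N) ≤
        Subgroup.centralizer ((Q : Subgroup N) : Set N) := by
      intro n hn
      have hn' : n ∈ (Q : Subgroup N) := by
        have h1 : (n : G) ∈ R ⊓ N := by
          refine ⟨?_, n.2⟩
          show (n : G) ∈ Subgroup.normalizer ((P : Subgroup G) : Set G)
          rw [← hQP]
          rw [Subgroup.mem_normalizer_iff] at hn ⊢
          intro g
          constructor
          · rintro ⟨m, hm, rfl⟩
            exact ⟨n * m * n⁻¹, (hn m).mp hm, by simp⟩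
          · rintro ⟨m, hm, hm'⟩
            refine ⟨n⁻¹ * m * n, (hn _).mpr ?_, ?_⟩
            · convert! hm using 1; group
            simp only [map_mul, map_inv, hm', Subgroup.subtype_apply]
            group
        rw [hRN, ← hQP] at h1
        obtain ⟨m, hm, hm'⟩ := h1
        rwa [← Subtype.ext (a1 := m) (a2 := n) hm']
      have hcyc : IsCyclic (Q : Subgroup N) := isCyclic_of_prime_card hQcard
      rw [Subgroup.mem_centralizer_iff]
      intro m hm
      exact congrArg Subtype.val
        ((IsCyclic.isMulCommutative (α := (Q : Subgroup N))).is_comm.comm ⟨m, hm⟩ ⟨n, hn'⟩)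
    let K := (MonoidHom.transferSylow Q hQnc).ker
    have hcompl : K.IsComplement' Q := MonoidHom.ker_transferSylow_isComplement' Q hQnc
    have hpK : ¬ p ∣ Nat.card K := MonoidHom.not_dvd_card_ker_transferSylow Q hQnc
    have hKchar : ∀ n : N, n ∈ K ↔ n ^ Nat.card K = 1 := by
      intro n
      constructor
      · intro hn
        exact congrArg Subtype.val (pow_card_eq_one' (x := (⟨n, hn⟩ : K)))
      · intro hn
        rw [MonoidHom.mem_ker, ← orderOf_eq_one_iff]
        have h1 : orderOf (MonoidHom.transferSylow Q hQnc n) ∣ p :=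
          (orderOf_dvd_natCard _).trans hQcard.dvd
        have h2 : orderOf (MonoidHom.transferSylow Q hQnc n) ∣ Nat.card K :=
          orderOf_dvd_of_pow_eq_one (by rw [← map_pow, hn, map_one])
        exact ((Nat.dvd_prime hp).mp h1).resolve_right fun e => hpK (e ▸ h2)
    let K' := K.map N.subtype
    have hK'n : K'.Normal := ⟨by
      rintro _ ⟨n, hn, rfl⟩ g
      refine ⟨⟨g * n.1 * g⁻¹, hNn.conj_mem _ n.2 g⟩, ?_, rfl⟩
      rw [SetLike.mem_coe, hKchar] at hn ⊢
      apply Subtype.ext
      rw [Subgroup.coe_pow, Subgroup.coe_one, conj_pow]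
      have := congrArg Subtype.val hn
      rw [Subgroup.coe_pow, Subgroup.coe_one] at this
      rw [this, mul_one, mul_inv_cancel]⟩
    have hK'bot : K' = ⊥ := by
      by_contra hne'
      apply hpK
      have := hN K' hK'n hne'
      rwa [show Nat.card K' = Nat.card K from Nat.card_congr
        (Subgroup.equivMapOfInjective K N.subtype N.subtype_injective).toEquiv.symm] at this
    have hKbot : K = ⊥ := (Subgroup.map_eq_bot_iff_of_injective _ N.subtype_injective).mp hK'bot
    have hNcard : Nat.card N = p := by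
      rw [← hcompl.card_mul_card, hQcard, hKbot, Subgroup.card_bot, one_mul]
    have hNP : N = P := (Subgroup.eq_of_le_of_card_ge hPN (by rw [hNcard, hPcard])).symm
    have hRtop : R = ⊤ := by
      rw [← hfrat, eq_comm, sup_eq_left, hNP]; exact hPR
    apply hne
    have h1 := hnorm P
    rw [show Subgroup.normalizer ((P : Subgroup G) : Set G) = ⊤ from hRtop, Subgroup.card_top] at h1
    exact h1

/-- A nontrivial normal subgroup of a faithful primitive group is transitive. -/
theorem normal_pretransitive {G α : Type*} [Group G] [MulAction G α] [FaithfulSMul G α]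
    [hprim : IsPreprimitive G α] {N : Subgroup G} (hN : N.Normal) (hNb : N ≠ ⊥) :
    IsPretransitive N α := by
  refine hprim.isQuasiPreprimitive.isPretransitive_of_normal fun h => hNb ?_
  rw [eq_bot_iff]
  intro n hn
  rw [Subgroup.mem_bot]
  refine eq_of_smul_eq_smul (α := α) fun a => ?_
  have : a ∈ fixedPoints N α := by rw [h]; trivial
  rw [one_smul]
  exact this ⟨n, hn⟩

/-- The order of a transitive group is divisible by the number of points. -/
theorem natCard_dvd_of_pretransitive {G α : Type*} [Group G] [MulAction G α] [Finite G]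
    [IsPretransitive G α] [Nonempty α] : Nat.card α ∣ Nat.card G := by
  obtain ⟨a⟩ := ‹Nonempty α›
  rw [← index_stabilizer_of_transitive G a]
  exact Subgroup.index_dvd_card _

/-- A 2-transitive group with a simple point stabiliser, whose degree has two distinct prime
divisors, is simple. -/
theorem isSimpleGroup_of_simple_stabilizer {G α : Type*} [Group G] [MulAction G α]
    [FaithfulSMul G α] [Finite α] (h2 : IsMultiplyPretransitive G α 2) (a : α)
    (hsimp : IsSimpleGroup (stabilizer G a)) {p r : ℕ} (hp : p.Prime) (hr : r.Prime)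
    (hpr : p ≠ r) (hpα : p ∣ Nat.card α) (hrα : r ∣ Nat.card α) : IsSimpleGroup G := by
  have : Finite G := Finite.of_injective (fun g : G => fun a : α => g • a)
    fun g h e => eq_of_smul_eq_smul (fun a => congrFun e a)
  have : Fact p.Prime := ⟨hp⟩
  have : Fact r.Prime := ⟨hr⟩
  have hprim : IsPreprimitive G α := isPreprimitive_of_is_two_pretransitive h2
  have : Nontrivial G := by
    have := hsimp.toNontrivial
    obtain ⟨x, y, hxy⟩ := exists_pair_ne (stabilizer G a)
    exact ⟨⟨x.1, y.1, fun e => hxy (Subtype.ext e)⟩⟩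
  refine IsSimpleGroup.mk fun N hNn => or_iff_not_imp_left.mpr fun hNb => ?_
  have htr : IsPretransitive N α := normal_pretransitive hNn hNb
  have hnorm : (N.subgroupOf (stabilizer G a)).Normal :=
    ⟨fun m hm g => hNn.conj_mem _ hm g.1⟩
  rcases hsimp.eq_bot_or_eq_top_of_normal _ hnorm with h | h
  · exfalso
    rw [Subgroup.subgroupOf_eq_bot] at h
    have hfree : ∀ n ∈ N, n • a = a → n = 1 := fun n hn hna =>
      Subgroup.mem_bot.mp (h.le_bot ⟨hn, hna⟩)
    have hbij : Function.Bijective fun n : N => (n : G) • a := by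
      refine ⟨fun m n e => ?_, fun b => ?_⟩
      · have h1 := hfree (n.1⁻¹ * m.1) (N.mul_mem (N.inv_mem n.2) m.2)
          (by rw [mul_smul]; exact inv_smul_eq_iff.mpr e)
        exact Subtype.ext (inv_mul_eq_one.mp h1).symm
      · obtain ⟨n, hn⟩ := exists_smul_eq N a b
        exact ⟨n, hn⟩
    have hcard : Nat.card N = Nat.card α := Nat.card_eq_of_bijective _ hbij
    obtain ⟨x, hx⟩ := exists_prime_orderOf_dvd_card' p (hcard ▸ hpα)
    obtain ⟨y, hy⟩ := exists_prime_orderOf_dvd_card' r (hcard ▸ hrα)
    have hxa : (x : G) • a ≠ a := by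
      intro e
      have : x = 1 := Subtype.ext (hfree _ x.2 e)
      rw [this, orderOf_one] at hx
      exact hp.ne_one hx.symm
    have hya : (y : G) • a ≠ a := by
      intro e
      have : y = 1 := Subtype.ext (hfree _ y.2 e)
      rw [this, orderOf_one] at hy
      exact hr.ne_one hy.symm
    obtain ⟨g, hga, hgxy⟩ :=
      (is_two_pretransitive_iff (G := G) (α := α)).mp h2 hxa.symm hya.symm
    have hga' : g⁻¹ • a = a := inv_smul_eq_iff.mpr hga.symm
    have he : (⟨g * x.1 * g⁻¹, hNn.conj_mem _ x.2 g⟩ : N) = y := by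
      apply hbij.1
      show (g * x.1 * g⁻¹) • a = _
      rw [mul_smul, mul_smul, hga', hgxy]
    apply hpr
    rw [← hx, ← hy, ← he, ← Subgroup.orderOf_coe x, ← Subgroup.orderOf_coe]
    exact (MulEquiv.orderOf_eq (MulAut.conj g) x.1).symm
  · rw [eq_top_iff]
    intro g _
    obtain ⟨n, hn⟩ := exists_smul_eq N a (g • a)
    have h1 : (n : G)⁻¹ * g ∈ stabilizer G a := by
      rw [mem_stabilizer_iff, mul_smul, inv_smul_eq_iff]
      exact hn.symm
    have h2 : (n : G)⁻¹ * g ∈ N := Subgroup.subgroupOf_eq_top.mp h h1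
    have := N.mul_mem n.2 h2
    rwa [mul_inv_cancel_left] at this

end Cfsg.Agent.Sharply
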