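import Cfsg.Agent.Sharply.Jordan
import Cfsg.Agent.Sharply.SimpleCrit

/-!
Degrees and simplicity of sharply `k`-transitive groups, `k ≥ 4`.
-/

set_option autoImplicit false

namespace Cfsg.Agent.Sharply

open MulAction

variable {G α : Type*} [Group G] [MulAction G α]

/-- Four distinct points as an embedding. -/
def emb4 {a b c d : α} (h : Distinct4 a b c d) : Fin 4 ↪ α :=
  ⟨![a, b, c, d], by
    obtain ⟨h1, h2, h3, h4, h5, h6⟩ := h
    intro i j hij
    fin_cases i <;> fin_cases j <;> first
      | rfl
      | exact absurd hij (by first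
          | exact h1 | exact h2 | exact h3 | exact h4 | exact h5 | exact h6
          | exact Ne.symm h1 | exact Ne.symm h2 | exact Ne.symm h3
          | exact Ne.symm h4 | exact Ne.symm h5 | exact Ne.symm h6)⟩

theorem isSharpFour_of_stabilizer_bot (ht : IsMultiplyPretransitive G α 4)
    (hs : ∀ x : Fin 4 ↪ α, stabilizer G x = ⊥) : IsSharpFour G α := by
  refine ⟨fun g a b c d h ha hb hc hd => ?_, fun a b c d a' b' c' d' h h' => ?_⟩
  · rw [← Subgroup.mem_bot, ← hs (emb4 h), mem_stabilizer_iff]
    ext i
    fin_cases i <;> assumption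
  · obtain ⟨g, hg⟩ := exists_smul_eq G (emb4 h) (emb4 h')
    exact ⟨g, congrArg (fun e : Fin 4 ↪ α => e 0) hg, congrArg (fun e : Fin 4 ↪ α => e 1) hg,
      congrArg (fun e : Fin 4 ↪ α => e 2) hg, congrArg (fun e : Fin 4 ↪ α => e 3) hg⟩

/-- A `k`-transitive action in which only the identity fixes a `k`-tuple. -/
structure IsSharp (k : ℕ) (G α : Type*) [Group G] [MulAction G α] : Prop where
  trans : IsMultiplyPretransitive G α k
  stab : ∀ x : Fin k ↪ α, stabilizer G x = ⊥

variable [Fintype α]

theorem IsSharp.natCard {k : ℕ} (h : IsSharp k G α) (hk : k ≤ Fintype.card α) :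
    Nat.card G = (Fintype.card α).descFactorial k := by
  classical
  obtain ⟨x⟩ : Nonempty (Fin k ↪ α) :=
    Function.Embedding.nonempty_of_card_le (by simpa using hk)
  have := h.trans
  have hb : Function.Bijective fun g : G => g • x := by
    refine ⟨fun g k e => ?_, fun y => exists_smul_eq G x y⟩
    have h1 : k⁻¹ * g ∈ stabilizer G x := by
      rw [mem_stabilizer_iff, mul_smul]
      exact inv_smul_eq_iff.mpr e
    rw [h.stab, Subgroup.mem_bot] at h1
    exact (inv_mul_eq_one.mp h1).symm
  rw [Nat.card_eq_of_bijective _ hb, Nat.card_eq_fintype_card, Fintype.card_embedding_eq,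
    Fintype.card_fin]

theorem IsSharp.stabilizer {k : ℕ} (h : IsSharp (k + 1) G α) (hn : k + 1 ≤ Fintype.card α)
    (a : α) : IsSharp k (MulAction.stabilizer G a) (SubMulAction.ofStabilizer G a) := by
  classical
  have htr : IsPretransitive G α := by
    have := h.trans
    have h1 : IsMultiplyPretransitive G α 1 :=
      isMultiplyPretransitive_of_le (n := k + 1) (by omega) (by rwa [Nat.card_eq_fintype_card])
    exact is_one_pretransitive_iff.mp h1
  refine ⟨SubMulAction.ofStabilizer.isMultiplyPretransitive.mp h.trans, fun x => ?_⟩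
  rw [eq_bot_iff]
  intro g hg
  rw [mem_stabilizer_iff] at hg
  rw [Subgroup.mem_bot]
  have h1 : (g : G) ∈ MulAction.stabilizer G (SubMulAction.ofStabilizer.snoc x) := by
    rw [mem_stabilizer_iff]
    ext i
    rw [Function.Embedding.smul_apply]
    rcases Fin.eq_castSucc_or_eq_last i with ⟨i, rfl⟩ | rfl
    · rw [SubMulAction.ofStabilizer.snoc_castSucc]
      exact congrArg Subtype.val (congrArg (fun e : Fin k ↪ SubMulAction.ofStabilizer G a => e i) hg)
    · rw [SubMulAction.ofStabilizer.snoc_last]
      exact g.2
  rw [h.stab, Subgroup.mem_bot] at h1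
  exact Subtype.ext h1

theorem card_ofStabilizer (a : α) [Fintype (SubMulAction.ofStabilizer G a)] :
    Fintype.card (SubMulAction.ofStabilizer G a) = Fintype.card α - 1 := by
  classical
  rw [← Nat.card_eq_fintype_card]
  have e : (SubMulAction.ofStabilizer G a) ≃ {x : α // x ≠ a} :=
    Equiv.subtypeEquivRight fun x => Iff.rfl
  rw [Nat.card_congr e, Nat.card_eq_fintype_card, Fintype.card_subtype_compl,
    Fintype.card_subtype_eq]

theorem faithful_of_sharp {k : ℕ} (h : IsSharp k G α) (hk : k ≤ Fintype.card α) :
    FaithfulSMul G α := by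
  obtain ⟨x⟩ : Nonempty (Fin k ↪ α) :=
    Function.Embedding.nonempty_of_card_le (by simpa using hk)
  refine ⟨fun {g k} e => ?_⟩
  have h1 : k⁻¹ * g ∈ MulAction.stabilizer G x := by
    rw [mem_stabilizer_iff]
    ext i
    rw [Function.Embedding.smul_apply, mul_smul]
    exact inv_smul_eq_iff.mpr (e _)
  rw [h.stab, Subgroup.mem_bot] at h1
  exact (inv_mul_eq_one.mp h1).symm

theorem sharp_four_degree (h : IsSharp 4 G α) (hn : 4 ≤ Fintype.card α) :
    Fintype.card α = 4 ∨ Fintype.card α = 5 ∨ Fintype.card α = 6 ∨ Fintype.card α = 11 := by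
  classical
  exact (isSharpFour_of_stabilizer_bot h.trans h.stab).degree hn

theorem sharp_five_degree (h : IsSharp 5 G α) (hn : 5 ≤ Fintype.card α) :
    Fintype.card α = 5 ∨ Fintype.card α = 6 ∨ Fintype.card α = 7 ∨ Fintype.card α = 12 := by
  classical
  obtain ⟨a⟩ : Nonempty α := Fintype.card_pos_iff.mp (by omega)
  let : Fintype (SubMulAction.ofStabilizer G a) := Fintype.ofFinite _
  have h1 := sharp_four_degree (h.stabilizer hn a) (by rw [card_ofStabilizer]; omega)
  rw [card_ofStabilizer] at h1
  omega

/-- There is no sharply 6-transitive group of degree 13. -/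
theorem not_sharp_six_thirteen (h : IsSharp 6 G α) (hn : Fintype.card α = 13) : False := by
  classical
  have hcard : Nat.card G = 1235520 := by
    rw [h.natCard (by omega), hn]
    rfl
  have := faithful_of_sharp h (by omega)
  have : Finite G := Nat.finite_of_card_ne_zero (by omega)
  have : Fact (Nat.Prime 13) := ⟨by norm_num⟩
  obtain ⟨P⟩ : Nonempty (Sylow 13 G) := inferInstance
  have hP : Nat.card (P : Subgroup G) = 13 := by
    rw [P.card_eq_multiplicity, hcard, Nat.factorization_def _ (by norm_num : Nat.Prime 13),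
      show (1235520 : ℕ) = 13 * 95040 from rfl,
      padicValNat.mul (by norm_num) (by norm_num), padicValNat_self,
      padicValNat.eq_zero_of_not_dvd (by norm_num)]
    norm_num
  have h1 := card_normalizer_dvd_of_prime_degree (α := α) (by norm_num : Nat.Prime 13)
    (by rw [Nat.card_eq_fintype_card, hn]) (P : Subgroup G) hP
  have h2 : 13 ∣ Nat.card (Subgroup.normalizer ((P : Subgroup G) : Set G)) := by
    exact hP.symm.dvd.trans (Subgroup.card_dvd_of_le Subgroup.le_normalizer)
  have h3 : Nat.card (Sylow 13 G) *
      Nat.card (Subgroup.normalizer ((P : Subgroup G) : Set G)) = Nat.card G := by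
    rw [P.card_eq_index_normalizer]
    exact Subgroup.index_mul_card _
  rw [hcard] at h3
  have h4 : Nat.card (Sylow 13 G) % 13 = 1 := card_sylow_modEq_one 13 G
  obtain ⟨d, hd⟩ := h2
  rw [hd] at h1 h3
  have h5 : d ∣ 12 := Nat.dvd_of_mul_dvd_mul_left (by norm_num : 0 < 13) h1
  have h6 : d ≤ 12 := Nat.le_of_dvd (by norm_num) h5
  interval_cases d <;> omega

theorem sharp_six_degree (h : IsSharp 6 G α) (hn : 6 ≤ Fintype.card α) :
    Fintype.card α = 6 ∨ Fintype.card α = 7 ∨ Fintype.card α = 8 := by
  classical
  obtain ⟨a⟩ : Nonempty α := Fintype.card_pos_iff.mp (by omega)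
  let : Fintype (SubMulAction.ofStabilizer G a) := Fintype.ofFinite _
  have h1 := sharp_five_degree (h.stabilizer hn a) (by rw [card_ofStabilizer]; omega)
  rw [card_ofStabilizer] at h1
  by_cases h13 : Fintype.card α = 13
  · exact (not_sharp_six_thirteen h h13).elim
  omega

omit [Fintype α] in
theorem sharp_large_degree.{u, v} (m : ℕ) :
    ∀ (G : Type u) (α : Type v) [Group G] [MulAction G α] [Fintype α],
      IsSharp (m + 6) G α → m + 6 ≤ Fintype.card α →
      Fintype.card α = m + 6 ∨ Fintype.card α = m + 7 ∨ Fintype.card α = m + 8 := by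
  induction m with
  | zero => intro G α _ _ _ h hn; simpa using sharp_six_degree h hn
  | succ m ih =>
    intro G α _ _ _ h hn
    classical
    obtain ⟨a⟩ : Nonempty α := Fintype.card_pos_iff.mp (by omega)
    let : Fintype (SubMulAction.ofStabilizer G a) := Fintype.ofFinite _
    have h' : IsSharp (m + 6 + 1) G α := by rwa [Nat.add_right_comm]
    have h1 := ih _ _ (h'.stabilizer (by omega) a) (by rw [card_ofStabilizer]; omega)
    rw [card_ofStabilizer] at h1
    omega

/-- A sharply 4-transitive group of degree 11 is simple. -/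
theorem sharp_four_eleven (h : IsSharp 4 G α) (hn : Fintype.card α = 11) :
    IsSimpleGroup G ∧ Nat.card G = 7920 := by
  classical
  have hcard : Nat.card G = 7920 := by
    rw [h.natCard (by omega), hn]
    rfl
  refine ⟨?_, hcard⟩
  have := faithful_of_sharp h (by omega)
  have : Finite G := Nat.finite_of_card_ne_zero (by omega)
  have := h.trans
  have h2 : IsMultiplyPretransitive G α 2 :=
    isMultiplyPretransitive_of_le (n := 4) (by omega) (by rw [Nat.card_eq_fintype_card]; omega)
  have hprim : IsPreprimitive G α := isPreprimitive_of_is_two_pretransitive h2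
  have hne : Nonempty α := Fintype.card_pos_iff.mp (by omega)
  refine isSimpleGroup_of_normalizer_card (p := 11) (q := 5) (by norm_num) (by norm_num)
    (by rw [hcard]; norm_num) (by rw [hcard]; norm_num) ?_ ?_
  · intro N hN hNb
    have := normal_pretransitive (α := α) hN hNb
    have h := natCard_dvd_of_pretransitive (G := N) (α := α)
    rwa [Nat.card_eq_fintype_card, hn] at h
  · intro P
    have : Fact (Nat.Prime 11) := ⟨by norm_num⟩
    have hP : Nat.card (P : Subgroup G) = 11 := by
      rw [P.card_eq_multiplicity, hcard, Nat.factorization_def _ (by norm_num : Nat.Prime 11),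
        show (7920 : ℕ) = 11 * 720 from rfl,
        padicValNat.mul (by norm_num) (by norm_num), padicValNat_self,
        padicValNat.eq_zero_of_not_dvd (by norm_num)]
      norm_num
    have h1 := card_normalizer_dvd_of_prime_degree (α := α) (by norm_num : Nat.Prime 11)
      (by rw [Nat.card_eq_fintype_card, hn]) (P : Subgroup G) hP
    have h2 : 11 ∣ Nat.card (Subgroup.normalizer ((P : Subgroup G) : Set G)) :=
      hP.symm.dvd.trans (Subgroup.card_dvd_of_le Subgroup.le_normalizer)
    have h3 : Nat.card (Sylow 11 G) *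
        Nat.card (Subgroup.normalizer ((P : Subgroup G) : Set G)) = Nat.card G := by
      rw [P.card_eq_index_normalizer]
      exact Subgroup.index_mul_card _
    rw [hcard] at h3
    have h4 : Nat.card (Sylow 11 G) % 11 = 1 := card_sylow_modEq_one 11 G
    obtain ⟨d, hd⟩ := h2
    rw [hd] at h1 h3 ⊢
    have h5 : d ∣ 10 := Nat.dvd_of_mul_dvd_mul_left (by norm_num : 0 < 11) h1
    have h6 : d ≤ 10 := Nat.le_of_dvd (by norm_num) h5
    interval_cases d <;> omega

/-- A sharply 5-transitive group of degree 12 is simple. -/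
theorem sharp_five_twelve (h : IsSharp 5 G α) (hn : Fintype.card α = 12) :
    IsSimpleGroup G ∧ Nat.card G = 95040 := by
  classical
  have hcard : Nat.card G = 95040 := by
    rw [h.natCard (by omega), hn]
    rfl
  refine ⟨?_, hcard⟩
  have := faithful_of_sharp h (by omega)
  have := h.trans
  obtain ⟨a⟩ : Nonempty α := Fintype.card_pos_iff.mp (by omega)
  let : Fintype (SubMulAction.ofStabilizer G a) := Fintype.ofFinite _
  have hs := (sharp_four_eleven (h.stabilizer (by omega) a)
    (by rw [card_ofStabilizer, hn])).1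
  exact isSimpleGroup_of_simple_stabilizer
    (isMultiplyPretransitive_of_le (n := 5) (by omega) (by rw [Nat.card_eq_fintype_card]; omega))
    a hs (p := 2) (r := 3) Nat.prime_two Nat.prime_three (by norm_num)
    (by rw [Nat.card_eq_fintype_card, hn]; norm_num) (by rw [Nat.card_eq_fintype_card, hn]; norm_num)

end Cfsg.Agent.Sharply
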