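import Mathlib

/-!
Group theoretic core of the proof of Jordan's theorem on sharply 4-transitive groups:
groups with a unique involution and a suitable action of the symmetric group of degree 3.
-/

set_option autoImplicit false

open scoped Pointwise

namespace Cfsg.Agent.Sharply

variable {Q : Type*} [Group Q]

/-- An automorphism of a finite group with no nontrivial fixed point: `g ↦ g⁻¹ * w g` is onto. -/
theorem fpf_map_surjective [Finite Q] (w : MulAut Q) (hw : ∀ g, w g = g → g = 1) :
    Function.Surjective (fun g => g⁻¹ * w g) := by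
  apply Finite.surjective_of_injective
  intro a b hab
  simp only at hab
  have h1 : w (b * a⁻¹) = b * a⁻¹ := by
    rw [map_mul, map_inv]
    calc w b * (w a)⁻¹ = b * (b⁻¹ * w b) * (w a)⁻¹ := by group
      _ = b * (a⁻¹ * w a) * (w a)⁻¹ := by rw [hab]
      _ = b * a⁻¹ := by group
  have := hw _ h1
  exact (mul_inv_eq_one.mp this).symm

theorem fpf_invol_inverts [Finite Q] (z : MulAut Q) (hz2 : ∀ g, z (z g) = g)
    (hz : ∀ g, z g = g → g = 1) (g : Q) : z g = g⁻¹ := by
  obtain ⟨a, ha⟩ := fpf_map_surjective z hz g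
  simp only at ha
  rw [← ha, map_mul, map_inv, hz2]
  group

variable [Finite Q]

/-- A prime divisor of the order is 2, in a group with a suitable action of `Sym 3`. -/
theorem isPGroup_two_of_symThree (z w : MulAut Q) (hz2 : ∀ g, z (z g) = g)
    (hw3 : ∀ g, w (w (w g)) = g) (hrel : ∀ g, z (w (z g)) = w.symm g)
    (hw : ∀ g, w g = g → g = 1) (hz : Nat.card {g : Q // z g = g} ≤ 2) :
    IsPGroup 2 Q := by
  classical
  have hprime : ∀ p : ℕ, p.Prime → p ∣ Nat.card Q → p = 2 := by
    intro p hp hdvd
    by_contra hp2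
    have : Fact p.Prime := ⟨hp⟩
    obtain ⟨P₀⟩ : Nonempty (Sylow p Q) := inferInstance
    let act : MulAut Q → Sylow p Q → Sylow p Q := fun a P => a • P
    -- a w-invariant Sylow subgroup
    obtain ⟨P, hP⟩ : ∃ P : Sylow p Q, w • P = P := by
      obtain ⟨h, hh⟩ := MulAction.exists_smul_eq Q P₀ (w • P₀)
      obtain ⟨g, hg⟩ := fpf_map_surjective w hw h⁻¹
      simp only at hg
      refine ⟨g • P₀, ?_⟩
      have : ∀ (g : Q) (P : Sylow p Q), w • (g • P) = w g • (w • P) := by
        intro g P
        show w • (MulAut.conj g • P) = MulAut.conj (w g) • (w • P)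
        rw [smul_smul, smul_smul]
        congr 1
        ext a
        simp [MulAut.mul_apply, map_mul, map_inv]
      rw [this, ← hh, smul_smul]
      have hwg : w g * h = g := by
        have h2 : w g = g * h⁻¹ := by rw [← hg]; group
        rw [h2]; group
      rw [hwg]
    -- uniqueness of the invariant Sylow subgroup
    have hequiv : ∀ (a : MulAut Q) (g : Q) (P : Sylow p Q), a • (g • P) = a g • (a • P) := by
      intro a g P
      show a • (MulAut.conj g • P) = MulAut.conj (a g) • (a • P)
      rw [smul_smul, smul_smul]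
      congr 1
      ext b
      simp [MulAut.mul_apply, map_mul, map_inv]
    have huniq : ∀ P' : Sylow p Q, w • P' = P' → P' = P := by
      intro P' hP'
      obtain ⟨g, rfl⟩ := MulAction.exists_smul_eq Q P P'
      rw [hequiv, hP] at hP'
      have hN : g⁻¹ * w g ∈ MulAction.stabilizer Q P := by
        simp [MulAction.mem_stabilizer_iff, mul_smul, hP']
      let N := MulAction.stabilizer Q P
      have hNw : ∀ a ∈ N, w a ∈ N := by
        intro a ha
        have := hequiv w a P
        rw [MulAction.mem_stabilizer_iff] at ha ⊢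
        rw [ha, hP] at this
        exact this.symm
      let f : N → N := fun a => ⟨(a : Q)⁻¹ * w a, N.mul_mem (N.inv_mem a.2) (hNw _ a.2)⟩
      have hf : Function.Surjective f := by
        apply Finite.surjective_of_injective
        intro a b hab
        have hab' : (a : Q)⁻¹ * w a = (b : Q)⁻¹ * w b := congrArg Subtype.val hab
        have hinj : Function.Injective (fun g => g⁻¹ * w g) :=
          Finite.injective_iff_surjective.mpr (fpf_map_surjective w hw)
        exact Subtype.ext (hinj hab')
      obtain ⟨⟨a, ha⟩, hfa⟩ := hf ⟨g⁻¹ * w g, hN⟩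
      have hinj : Function.Injective (fun g => g⁻¹ * w g) :=
        Finite.injective_iff_surjective.mpr (fpf_map_surjective w hw)
      have hag : a = g := hinj (congrArg Subtype.val hfa)
      rw [← hag]
      exact ha
    have hzP : z • P = P := by
      apply huniq
      rw [smul_smul]
      have hwz : w * z = z * w⁻¹ := by
        ext g
        simp only [MulAut.mul_apply]
        show w (z g) = z (w.symm g)
        rw [← hrel g, hz2]
      rw [hwz, mul_smul, inv_smul_eq_iff.mpr hP.symm]
    -- the restriction of z to P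
    have hmem : ∀ (a : MulAut Q), a • P = P → ∀ x ∈ P, a x ∈ P := by
      intro a ha x hx
      have hx' : a • x ∈ (a • P : Sylow p Q) := by
        show a • x ∈ a • (P : Subgroup Q)
        exact Subgroup.smul_mem_pointwise_smul x a _ hx
      rw [ha] at hx'
      exact hx'
    obtain ⟨n, hn⟩ := P.2.exists_card_eq
    have hodd : ¬ 2 ∣ Nat.card (P : Subgroup Q) := by
      rw [hn]
      intro h2
      have := (Nat.prime_dvd_prime_iff_eq Nat.prime_two hp).mp (Nat.prime_two.dvd_of_dvd_pow h2)
      exact hp2 this.symm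
    have hfree : ∀ g ∈ P, z g = g → g = 1 := by
      intro g hg hzg
      by_contra hne
      -- the powers of g are fixed by z
      have hsub : ∀ x ∈ Subgroup.zpowers g, z x = x := by
        rintro x ⟨k, rfl⟩
        simp [map_zpow, hzg]
      have h1 : Nat.card (Subgroup.zpowers g) ≤ 2 := by
        refine le_trans ?_ hz
        exact Nat.card_le_card_of_injective (fun x => ⟨x.1, hsub x.1 x.2⟩)
          (fun a b h => Subtype.ext (congrArg (fun t : {g : Q // z g = g} => t.1) h))
      rw [Nat.card_zpowers] at h1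
      have h0 : orderOf g ≠ 0 := (orderOf_pos g).ne'
      have h1' : orderOf g ≠ 1 := fun h => hne (orderOf_eq_one_iff.mp h)
      have h2 : orderOf g = 2 := by omega
      apply hodd
      rw [← h2]
      exact Subgroup.orderOf_dvd_natCard _ hg
    have hinv : ∀ g ∈ P, z g = g⁻¹ := by
      let f : ↥(P : Subgroup Q) → ↥(P : Subgroup Q) := fun a =>
        ⟨(a : Q)⁻¹ * z a, mul_mem (inv_mem a.2) (hmem z hzP _ a.2)⟩
      have hf : Function.Surjective f := by
        apply Finite.surjective_of_injective
        intro a b hab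
        have hab' : (a : Q)⁻¹ * z a = (b : Q)⁻¹ * z b := congrArg Subtype.val hab
        have : z ((b : Q) * (a : Q)⁻¹) = (b : Q) * (a : Q)⁻¹ := by
          rw [map_mul, map_inv]
          calc z b * (z a)⁻¹ = b * ((b : Q)⁻¹ * z b) * (z a)⁻¹ := by group
            _ = b * ((a : Q)⁻¹ * z a) * (z a)⁻¹ := by rw [hab']
            _ = b * (a : Q)⁻¹ := by group
        have := hfree _ (mul_mem b.2 (inv_mem a.2)) this
        exact Subtype.ext (mul_inv_eq_one.mp this).symm
      intro g hg
      obtain ⟨a, ha⟩ := hf ⟨g, hg⟩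
      have ha' : (a : Q)⁻¹ * z a = g := congrArg Subtype.val ha
      rw [← ha', map_mul, map_inv, hz2]
      group
    -- hence w centralises P
    have hwfix : ∀ g ∈ P, w g = g := by
      intro g hg
      have hwg := hmem w hP g hg
      have h1 : z (w (z g)) = w.symm g := hrel g
      rw [hinv g hg, map_inv, map_inv, hinv _ hwg, inv_inv] at h1
      have h2 : w (w g) = g := by rw [h1, MulEquiv.apply_symm_apply]
      have h3 := hw3 g
      rw [h2] at h3
      exact h3
    have hP1 : Nat.card (P : Subgroup Q) = 1 := by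
      rw [Subgroup.card_eq_one, eq_bot_iff]
      intro g hg
      exact Subgroup.mem_bot.mpr (hw g (hwfix g hg))
    have hpd := P.dvd_card_of_dvd_card hdvd
    rw [hP1] at hpd
    exact hp.one_lt.ne' (Nat.dvd_one.mp hpd)
  rw [IsPGroup.iff_card]
  refine ⟨(Nat.card Q).primeFactorsList.length, ?_⟩
  refine Nat.eq_prime_pow_of_unique_prime_dvd Nat.card_pos.ne' ?_
  intro d hd hdv
  exact hprime d hd hdv

/-- The central involutions, in a group with a suitable action of `Sym 3`, form a four group
containing all fixed points of `z`. -/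
theorem exists_four_of_symThree [Nontrivial Q] (z w : MulAut Q) (hz2 : ∀ g, z (z g) = g)
    (hw3 : ∀ g, w (w (w g)) = g) (hrel : ∀ g, z (w (z g)) = w.symm g)
    (hw : ∀ g, w g = g → g = 1) (hz : Nat.card {g : Q // z g = g} ≤ 2) :
    ∃ E : Subgroup Q, (∀ e, e ∈ E ↔ e ∈ Subgroup.center Q ∧ e * e = 1) ∧ Nat.card E = 4 ∧
      ∀ g, z g = g → g ∈ E := by
  classical
  have h2g : IsPGroup 2 Q := isPGroup_two_of_symThree z w hz2 hw3 hrel hw hz
  let E : Subgroup Q :=
    { carrier := {e | e ∈ Subgroup.center Q ∧ e * e = 1}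
      one_mem' := ⟨one_mem _, one_mul 1⟩
      mul_mem' := by
        rintro a b ⟨ha, ha2⟩ ⟨hb, hb2⟩
        refine ⟨mul_mem ha hb, ?_⟩
        rw [mul_assoc a b, ← mul_assoc b a b, Subgroup.mem_center_iff.mp ha b, mul_assoc a b b,
          hb2, mul_one, ha2]
      inv_mem' := by
        rintro a ⟨ha, ha2⟩
        refine ⟨inv_mem ha, ?_⟩
        rw [← mul_inv_rev, ha2, inv_one] }
  have hzE : ∀ e ∈ E, z e ∈ E := by
    rintro e ⟨he, he2⟩
    refine ⟨?_, by rw [← map_mul, he2, map_one]⟩
    rw [Subgroup.mem_center_iff] at he ⊢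
    intro g
    apply z.injective
    rw [map_mul, map_mul, hz2, he]
  have hcomm : ∀ a b : Q, a ∈ E → b ∈ E → a * b = b * a :=
    fun a b _ hb => Subgroup.mem_center_iff.mp hb.1 a
  let f : E →* E :=
    { toFun := fun e => ⟨e.1 * z e.1, mul_mem e.2 (hzE _ e.2)⟩
      map_one' := by ext; simp
      map_mul' := by
        intro a b
        ext
        simp only [Subgroup.coe_mul, map_mul]
        rw [mul_assoc a.1, ← mul_assoc b.1, hcomm b.1 (z a.1) b.2 (hzE _ a.2)]
        group }
  have hfz : ∀ e : E, z (f e).1 = (f e).1 := by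
    intro e
    show z (e.1 * z e.1) = e.1 * z e.1
    rw [map_mul, hz2, hcomm _ _ (hzE _ e.2) e.2]
  have hker : ∀ e : E, e ∈ f.ker → z e.1 = e.1 := by
    intro e he
    have : e.1 * z e.1 = 1 := congrArg Subtype.val (MonoidHom.mem_ker.mp he)
    calc z e.1 = e.1 * e.1 * z e.1 := by rw [e.2.2, one_mul]
      _ = e.1 := by rw [mul_assoc, this, mul_one]
  let ι : f.ker → {g : Q // z g = g} := fun e => ⟨((e : E) : Q), hker e.1 e.2⟩
  have hι : Function.Injective ι := fun a b h => by
    have h' := congrArg (fun t : {g : Q // z g = g} => t.1) h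
    exact Subtype.val_injective (Subtype.val_injective h')
  have hk : Nat.card f.ker ≤ 2 := le_trans (Nat.card_le_card_of_injective ι hι) hz
  let κ : f.range → {g : Q // z g = g} := fun e => ⟨((e : E) : Q), by
    obtain ⟨e', he'⟩ := e.2
    rw [← he']; exact hfz e'⟩
  have hκ : Function.Injective κ := fun a b h => by
    have h' := congrArg (fun t : {g : Q // z g = g} => t.1) h
    exact Subtype.val_injective (Subtype.val_injective h')
  have hr : Nat.card f.range ≤ 2 := le_trans (Nat.card_le_card_of_injective κ hκ) hz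
  have hcard : Nat.card E = Nat.card f.range * Nat.card f.ker := by
    rw [← Subgroup.index_ker, Subgroup.index_mul_card]
  -- a nontrivial central involution
  obtain ⟨e, he1, he2⟩ : ∃ e ∈ E, e ≠ 1 := by
    have : Nontrivial (Subgroup.center Q) := h2g.center_nontrivial
    have hdvd : 2 ∣ Nat.card (Subgroup.center Q) := by
      obtain ⟨n, hn⟩ := (h2g.to_subgroup (Subgroup.center Q)).exists_card_eq
      have : 1 < Nat.card (Subgroup.center Q) := Finite.one_lt_card
      rw [hn] at this ⊢
      rcases n with - | n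
      · simp at this
      · exact dvd_pow_self 2 (Nat.succ_ne_zero n)
    obtain ⟨c, hc⟩ := exists_prime_orderOf_dvd_card' 2 hdvd
    refine ⟨c.1, ⟨c.2, ?_⟩, ?_⟩
    · have := pow_orderOf_eq_one c
      rw [hc, pow_two] at this
      exact congrArg Subtype.val this
    · intro h
      have : c = 1 := Subtype.ext h
      rw [this, orderOf_one] at hc
      omega
  have hwe : w e ≠ e := fun h => he2 (hw e h)
  have hwE : w e ∈ E := by
    refine ⟨?_, by rw [← map_mul, he1.2, map_one]⟩
    rw [Subgroup.mem_center_iff]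
    intro g
    apply w.symm.injective
    simp [Subgroup.mem_center_iff.mp he1.1]
  have h3 : 3 ≤ Nat.card E := by
    have hinj : Function.Injective (![(1 : E), ⟨e, he1⟩, ⟨w e, hwE⟩] : Fin 3 → E) := by
      have hwne : w e ≠ 1 := fun h => he2 (by rwa [map_eq_one_iff w w.injective] at h)
      intro i j hij
      have hij' := congrArg Subtype.val hij
      fin_cases i <;> fin_cases j <;> first
        | rfl
        | exact absurd hij' (by first
            | exact he2 | exact Ne.symm he2 | exact hwne | exact Ne.symm hwne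
            | exact hwe | exact Ne.symm hwe)
    simpa using Nat.card_le_card_of_injective _ hinj
  have hcases : Nat.card f.range = 2 ∧ Nat.card f.ker = 2 := by
    rw [hcard] at h3
    constructor <;> nlinarith
  refine ⟨E, fun _ => Iff.rfl, by rw [hcard, hcases.1, hcases.2], ?_⟩
  intro g hg
  have hbij : Function.Bijective ι := by
    rw [Nat.bijective_iff_injective_and_card]
    exact ⟨hι, le_antisymm (Nat.card_le_card_of_injective ι hι) (by omega)⟩
  obtain ⟨e', he'⟩ := hbij.2 ⟨g, hg⟩
  have he'' : g = ((e' : E) : Q) := (congrArg Subtype.val he').symm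
  rw [he'']
  exact e'.1.2

/-- The order of a group with a unique involution `x` and a suitable action of `Sym 3`. -/
theorem card_two_or_eight {M : Type*} [Group M] [Finite M] (x : M) (hx1 : x ≠ 1)
    (hxu : ∀ u : M, u * u = 1 → u = 1 ∨ u = x) (hx2 : x * x = 1)
    (z w : MulAut M) (hz2 : ∀ g, z (z g) = g) (hw3 : ∀ g, w (w (w g)) = g)
    (hrel : ∀ g, z (w (z g)) = w.symm g)
    (hw : ∀ g, w g = g → g = 1 ∨ g = x)
    (hzf : ∀ g, z g = g → g = 1 ∨ g = x)
    (hzy : Nat.card {g : M // z g = g * x} ≤ 2) :
    Nat.card M = 2 ∨ Nat.card M = 8 := by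
  classical
  have hauto : ∀ a : MulAut M, a x = x := by
    intro a
    rcases hxu (a x) (by rw [← map_mul, hx2, map_one]) with h | h
    · exact absurd ((map_eq_one_iff a a.injective).mp h) hx1
    · exact h
  have hxc : ∀ g : M, g * x = x * g := by
    intro g
    have := hauto (MulAut.conj g)
    simp only [MulAut.conj_apply] at this
    exact mul_inv_eq_iff_eq_mul.mp this
  let K : Subgroup M := Subgroup.zpowers x
  have hxord : orderOf x = 2 := orderOf_eq_prime (by rw [pow_two, hx2]) hx1
  have hKcard : Nat.card K = 2 := by rw [Nat.card_zpowers, hxord]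
  have hK : ∀ g, g ∈ K ↔ g = 1 ∨ g = x := by
    intro g
    constructor
    · rintro ⟨k, rfl⟩
      exact hxu _ (by
        show x ^ k * x ^ k = 1
        rw [← (Commute.refl x).mul_zpow, hx2, one_zpow])
    · rintro (h | h) <;> rw [h]
      exacts [one_mem _, Subgroup.mem_zpowers x]
  have hKn : K.Normal := ⟨fun n hn g => by
    rcases (hK n).mp hn with rfl | rfl
    · simp
    · rw [hxc, mul_inv_cancel_right]; exact hn⟩
  have hKmap : ∀ a : MulAut M, K.map a.toMonoidHom = K := by
    intro a
    rw [MonoidHom.map_zpowers]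
    simp [K, hauto a]
  let q : M →* M ⧸ K := QuotientGroup.mk' K
  let Z : MulAut (M ⧸ K) := QuotientGroup.congr K K z (hKmap z)
  let W : MulAut (M ⧸ K) := QuotientGroup.congr K K w (hKmap w)
  have hZ : ∀ g : M, Z (q g) = q (z g) := fun g => rfl
  have hW : ∀ g : M, W (q g) = q (w g) := fun g => rfl
  have hWs : ∀ g : M, W.symm (q g) = q (w.symm g) := fun g => rfl
  have hqs : Function.Surjective q := QuotientGroup.mk'_surjective K
  have hqeq : ∀ a b : M, q a = q b ↔ b = a ∨ b = a * x := by
    intro a b
    show (a : M ⧸ K) = (b : M ⧸ K) ↔ _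
    rw [QuotientGroup.eq, hK, inv_mul_eq_one, inv_mul_eq_iff_eq_mul, eq_comm]
  have hcardM : Nat.card M = Nat.card (M ⧸ K) * 2 := by
    rw [Subgroup.card_eq_card_quotient_mul_card_subgroup K, hKcard]
  rcases subsingleton_or_nontrivial (M ⧸ K) with hQ | hQ
  · left
    rw [hcardM, Nat.card_unique]
  right
  have hWf : ∀ g, W g = g → g = 1 := by
    intro g hg
    obtain ⟨m, rfl⟩ := hqs g
    rw [hW, eq_comm, hqeq] at hg
    have hwm : w m = m := by
      rcases hg with h | h
      · exact h
      · exfalso
        have h2 : w (w m) = m := by rw [h, map_mul, hauto, h, mul_assoc, hx2, mul_one]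
        have h3 := hw3 m
        rw [h2, h] at h3
        exact hx1 (mul_eq_left.mp h3)
    rw [← map_one q, eq_comm, hqeq]
    rcases hw m hwm with rfl | rfl <;> simp
  have hZf : Nat.card {g : M ⧸ K // Z g = g} ≤ 2 := by
    let S := {g : M // z g = g ∨ z g = g * x}
    let φ : S → {g : M ⧸ K // Z g = g} := fun g => ⟨q g.1, by
      rw [hZ, eq_comm, hqeq]; exact g.2⟩
    have hS : Nat.card S ≤ 4 := by
      have h1 : Nat.card {g : M // z g = g} ≤ 2 := by
        refine le_trans (Nat.card_le_card_of_injective
          (fun g => (⟨g.1, (hK g.1).mpr (hzf g.1 g.2)⟩ : K))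
          (fun a b h => Subtype.ext (congrArg (fun t : K => t.1) h))) hKcard.le
      have : Nat.card S ≤ Nat.card ({g : M // z g = g} ⊕ {g : M // z g = g * x}) := by
        refine Nat.card_le_card_of_injective
          (fun g => if h : z g.1 = g.1 then Sum.inl ⟨g.1, h⟩ else Sum.inr ⟨g.1, g.2.resolve_left h⟩) ?_
        intro a b h
        apply Subtype.ext
        by_cases ha : z a.1 = a.1 <;> by_cases hb : z b.1 = b.1 <;>
          simpa [ha, hb] using h
      rw [Nat.card_sum] at this
      omega
    have hfib : 2 * Nat.card {g : M ⧸ K // Z g = g} ≤ Nat.card S := by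
      have hcl : ∀ s : S, z (s.1 * x) = s.1 * x ∨ z (s.1 * x) = s.1 * x * x := by
        intro s
        rw [map_mul, hauto]
        rcases s.2 with h | h <;> simp [h]
      have hsel : ∀ g : {g : M ⧸ K // Z g = g}, ∃ s : S, φ s = g := by
        rintro ⟨g, hg⟩
        obtain ⟨m, rfl⟩ := hqs g
        rw [hZ, eq_comm, hqeq] at hg
        exact ⟨⟨m, hg⟩, rfl⟩
      choose sel hsel using hsel
      let F : Bool × {g : M ⧸ K // Z g = g} → S := fun p =>
        if p.1 then sel p.2 else ⟨(sel p.2).1 * x, hcl _⟩
      have hFq : ∀ p, φ (F p) = p.2 := by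
        rintro ⟨_ | _, g⟩
        · apply Subtype.ext
          show q ((sel g).1 * x) = g.1
          rw [← congrArg Subtype.val (hsel g)]
          exact ((hqeq _ _).mpr (Or.inr rfl)).symm
        · exact hsel g
      have hF : Function.Injective F := by
        rintro ⟨b, g⟩ ⟨b', g'⟩ h
        have hg : g = g' := by
          have := congrArg φ h
          rwa [hFq, hFq] at this
        subst hg
        have h' := congrArg Subtype.val h
        cases b <;> cases b'
        · rfl
        · exact absurd (mul_eq_left.mp h') hx1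
        · exact absurd (mul_eq_left.mp h'.symm) hx1
        · rfl
      have := Nat.card_le_card_of_injective F hF
      rwa [Nat.card_prod, Nat.card_eq_fintype_card, Fintype.card_bool] at this
    omega
  have hrelQ : ∀ g, Z (W (Z g)) = W.symm g := by
    intro g
    obtain ⟨m, rfl⟩ := hqs g
    rw [hZ, hW, hZ, hWs, hrel]
  have hZ2 : ∀ g, Z (Z g) = g := by
    intro g; obtain ⟨m, rfl⟩ := hqs g; rw [hZ, hZ, hz2]
  have hW3 : ∀ g, W (W (W g)) = g := by
    intro g; obtain ⟨m, rfl⟩ := hqs g; rw [hW, hW, hW, hw3]
  obtain ⟨E, hE, hE4, hEz⟩ := exists_four_of_symThree Z W hZ2 hW3 hrelQ hWf hZf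
  have h2g : IsPGroup 2 (M ⧸ K) := isPGroup_two_of_symThree Z W hZ2 hW3 hrelQ hWf hZf
  -- two non-commuting elements over E
  obtain ⟨d, hd, hdK⟩ : ∃ d, q d ∈ E ∧ q d ≠ 1 := by
    have : Nontrivial E := Finite.one_lt_card_iff_nontrivial.mp (by omega)
    obtain ⟨⟨e, he⟩, hne⟩ := exists_ne (1 : E)
    obtain ⟨d, rfl⟩ := hqs e
    exact ⟨d, he, fun h => hne (Subtype.ext h)⟩
  let d' := w d
  have hd' : q d' ∈ E := by
    rw [← hW, hE]
    rw [hE] at hd
    refine ⟨?_, by rw [← map_mul, hd.2, map_one]⟩
    rw [Subgroup.mem_center_iff]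
    intro g
    apply W.symm.injective
    simp [Subgroup.mem_center_iff.mp hd.1]
  have hd'K : q d' ≠ 1 := by
    rw [← hW]; exact fun h => hdK ((map_eq_one_iff W W.injective).mp h)
  have hdd' : q d' ≠ q d := by
    rw [← hW]; exact fun h => hdK (hWf _ h)
  have hsq : ∀ a : M, q a ∈ E → q a ≠ 1 → a * a = x := by
    intro a ha ha1
    have haa : q (1 : M) = q (a * a) := by rw [map_one, map_mul, ((hE _).mp ha).2]
    rcases (hqeq _ _).mp haa with h | h
    · exfalso
      rcases hxu a h with rfl | rfl
      · exact ha1 (map_one q)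
      · exact ha1 (by rw [← map_one q]; exact ((hqeq _ _).mpr (by simp)).symm)
    · simpa using h
  have hnc : d * d' ≠ d' * d := by
    intro h
    have h1 : (d * d') * (d * d') = 1 := by
      calc (d * d') * (d * d') = d * (d' * d) * d' := by group
        _ = d * (d * d') * d' := by rw [← h]
        _ = (d * d) * (d' * d') := by group
        _ = 1 := by rw [hsq d hd hdK, hsq d' hd' hd'K, hx2]
    have h2 : q (d * d') = 1 := by
      rcases hxu _ h1 with h | h
      · rw [h, map_one]
      · rw [h, ← map_one q]; exact ((hqeq _ _).mpr (by simp)).symm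
    rw [map_mul] at h2
    apply hdd'
    calc q d' = (q d * q d) * q d' := by rw [((hE _).mp hd).2, one_mul]
      _ = q d := by rw [mul_assoc, h2, mul_one]
  have hcomm : ∀ (m a : M), q a ∈ E → m * a = a * m ∨ m * a = a * m * x := by
    intro m a ha
    refine (hqeq (a * m) (m * a)).mp ?_
    rw [map_mul, map_mul]
    exact (Subgroup.mem_center_iff.mp ((hE _).mp ha).1 (q m)).symm
  have hnc' : d' * d = d * d' * x := (hcomm d' d hd).resolve_left (fun h => hnc h.symm)
  have hnc'' : d * d' = d' * d * x := by rw [hnc', mul_assoc, hx2, mul_one]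
  -- every element is a product of an element over E and one commuting with d and d'
  let C : Subgroup M := Subgroup.centralizer ({d, d'} : Set M)
  have hC : ∀ m : M, m ∈ C ↔ d * m = m * d ∧ d' * m = m * d' := by
    intro m; simp [C, Subgroup.mem_centralizer_iff]
  have hdec : ∀ m : M, ∃ e, q e ∈ E ∧ m * e ∈ C := by
    intro m
    obtain ⟨e₁, he₁, hc₁⟩ : ∃ e₁, q e₁ ∈ E ∧ d * (m * e₁) = (m * e₁) * d := by
      rcases hcomm m d hd with h | h
      · exact ⟨1, by simp, by simp [h]⟩
      · refine ⟨d', hd', ?_⟩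
        calc d * (m * d') = (d * m * x) * x * d' := by rw [mul_assoc (d * m), hx2, mul_one, mul_assoc]
          _ = (m * d) * x * d' := by rw [← h]
          _ = m * (d * d' * x) := by rw [mul_assoc, mul_assoc, ← hxc d', ← mul_assoc d]
          _ = m * d' * d := by rw [← hnc', mul_assoc]
    rcases hcomm (m * e₁) d' hd' with h | h
    · exact ⟨e₁, he₁, (hC _).mpr ⟨hc₁, h.symm⟩⟩
    · refine ⟨e₁ * d, by rw [map_mul]; exact mul_mem he₁ hd, (hC _).mpr ⟨?_, ?_⟩⟩
      · rw [← mul_assoc m, ← mul_assoc d, hc₁]
      · rw [← mul_assoc m]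
        calc d' * (m * e₁ * d) = (d' * (m * e₁) * x) * x * d := by
              rw [mul_assoc (d' * (m * e₁)) x x, hx2, mul_one]; group
          _ = (m * e₁ * d') * x * d := by rw [← h]
          _ = m * e₁ * (d' * d * x) := by rw [mul_assoc, mul_assoc, ← hxc d, ← mul_assoc d']
          _ = m * e₁ * d * d' := by rw [← hnc'', ← mul_assoc]
  let C' : Subgroup (M ⧸ K) := C.map q
  have htop : ∀ g : M ⧸ K, ∃ c ∈ C', ∃ e ∈ E, g = c * e := by
    intro g
    obtain ⟨m, rfl⟩ := hqs g
    obtain ⟨e, he, hc⟩ := hdec m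
    exact ⟨q (m * e), ⟨_, hc, rfl⟩, (q e)⁻¹, inv_mem he, by simp [mul_assoc]⟩
  -- C' meets E trivially
  have hE_list : ∀ g ∈ E, g = 1 ∨ g = q d ∨ g = q d' ∨ g = q d * q d' := by
    intro g hg
    have hinj : Function.Injective
        (![(1 : E), ⟨q d, hd⟩, ⟨q d', hd'⟩, ⟨q d * q d', mul_mem hd hd'⟩] : Fin 4 → E) := by
      have h1 : q d * q d' ≠ 1 := by
        intro h
        apply hdd'
        calc q d' = (q d * q d) * q d' := by rw [((hE _).mp hd).2, one_mul]
          _ = q d := by rw [mul_assoc, h, mul_one]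
      have h2 : q d * q d' ≠ q d := fun h => hd'K (mul_eq_left.mp h)
      have h3 : q d * q d' ≠ q d' := fun h => hdK (mul_eq_right.mp h)
      intro i j hij
      have hij' := congrArg Subtype.val hij
      fin_cases i <;> fin_cases j <;> first
        | rfl
        | exact absurd hij' (by first
            | exact hdK | exact Ne.symm hdK | exact hd'K | exact Ne.symm hd'K
            | exact hdd' | exact Ne.symm hdd' | exact h1 | exact Ne.symm h1
            | exact h2 | exact Ne.symm h2 | exact h3 | exact Ne.symm h3)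
    have hbij := (Nat.bijective_iff_injective_and_card _).mpr ⟨hinj, by simp [hE4]⟩
    obtain ⟨i, hi⟩ := hbij.2 ⟨g, hg⟩
    have hi' := congrArg Subtype.val hi
    fin_cases i <;> simp at hi' <;> simp [← hi']
  have hCE : ∀ c ∈ C', c ∈ E → c = 1 := by
    rintro c ⟨m, hm, rfl⟩ hcE
    rw [SetLike.mem_coe, hC] at hm
    rcases hE_list _ hcE with h | h | h | h
    · exact h
    · exfalso
      apply hnc
      rcases (hqeq _ _).mp h.symm with rfl | rfl
      · exact hm.2.symm
      · have h2 := hm.2
        rw [← mul_assoc, mul_assoc d, ← hxc d', ← mul_assoc d] at h2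
        exact (mul_right_cancel h2).symm
    · exfalso
      apply hnc
      rcases (hqeq _ _).mp h.symm with rfl | rfl
      · exact hm.1
      · have h2 := hm.1
        rw [← mul_assoc, mul_assoc d', ← hxc d, ← mul_assoc d'] at h2
        exact mul_right_cancel h2
    · exfalso
      apply hnc
      rw [← map_mul] at h
      rcases (hqeq _ _).mp h.symm with rfl | rfl
      · have h2 := hm.1
        rw [mul_assoc d d' d] at h2
        exact mul_left_cancel h2
      · have h2 := hm.1
        rw [← mul_assoc d (d * d') x, mul_assoc (d * d') x d, ← hxc d, ← mul_assoc (d * d') d x] at h2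
        have h3 := mul_right_cancel h2
        rw [mul_assoc d d' d] at h3
        exact mul_left_cancel h3
  -- C' is trivial
  have hCz : ∀ c ∈ C', Z c ∈ C' → Z c = c → c = 1 := fun c hc _ h => hCE c hc (hEz c h)
  have hC'bot : ∀ c ∈ C', c = 1 := by
    by_contra hne
    push Not at hne
    obtain ⟨c₀, hc₀, hc₀1⟩ := hne
    have hCnt : Nontrivial C' := ⟨⟨c₀, hc₀⟩, 1, fun h => hc₀1 (congrArg Subtype.val h)⟩
    have hdvd : 2 ∣ Nat.card C' := by
      obtain ⟨n, hn⟩ := (h2g.to_subgroup C').exists_card_eq
      have : 1 < Nat.card C' := Finite.one_lt_card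
      rw [hn] at this ⊢
      rcases n with - | n
      · simp at this
      · exact dvd_pow_self 2 (Nat.succ_ne_zero n)
    -- a central involution inside C'
    have hCn : C'.Normal := ⟨fun c hc g => by
      obtain ⟨a, ha, e, he, rfl⟩ := htop g
      have he' : e * c = c * e := (Subgroup.mem_center_iff.mp ((hE e).mp he).1 c).symm
      rw [mul_inv_rev, mul_assoc a e c, he', ← mul_assoc a c e]
      simp only [mul_assoc, mul_inv_cancel_left]
      exact mul_mem ha (mul_mem hc (inv_mem ha))⟩
    have : Fact (Nat.Prime 2) := ⟨Nat.prime_two⟩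
    have hfix : ∃ c ∈ C', c ≠ 1 ∧ c ∈ Subgroup.center (M ⧸ K) := by
      obtain ⟨b, hb, hb1⟩ :=
        (h2g.of_equiv (ConjAct.toConjAct)).exists_fixed_point_of_prime_dvd_card_of_fixed_point
          C' hdvd (a := (1 : C')) (fun g => by simp)
      refine ⟨b.1, b.2, fun h => hb1 (Subtype.ext h.symm), ?_⟩
      rw [Subgroup.mem_center_iff]
      intro g
      have := congrArg Subtype.val (hb (ConjAct.toConjAct g))
      rw [ConjAct.Subgroup.val_conj_smul, ConjAct.smul_def, ConjAct.ofConjAct_toConjAct] at this
      exact mul_inv_eq_iff_eq_mul.mp this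
    obtain ⟨c, hc, hc1, hcc⟩ := hfix
    obtain ⟨k, hk⟩ := h2g c
    -- a power of c is a central involution
    have hord : orderOf c ∣ 2 ^ k := orderOf_dvd_of_pow_eq_one hk
    obtain ⟨j, -, hj⟩ := (Nat.dvd_prime_pow Nat.prime_two).mp hord
    rcases j with - | j
    · exact hc1 (orderOf_eq_one_iff.mp hj)
    have hpw : c ^ 2 ^ j * c ^ 2 ^ j = 1 := by
      rw [← pow_add, ← two_mul, ← pow_succ', ← hj, pow_orderOf_eq_one]
    have hne : c ^ 2 ^ j ≠ 1 := by
      intro h
      have h1 := orderOf_dvd_of_pow_eq_one h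
      rw [hj] at h1
      have := Nat.le_of_dvd (by positivity) h1
      rw [pow_succ] at this
      have : 0 < 2 ^ j := by positivity
      omega
    exact hne (hCE _ (pow_mem hc _) ((hE _).mpr ⟨pow_mem hcc _, hpw⟩))
  have hall : ∀ g : M ⧸ K, g ∈ E := by
    intro g
    obtain ⟨c, hc, e, he, rfl⟩ := htop g
    rw [hC'bot c hc, one_mul]
    exact he
  have : E = ⊤ := eq_top_iff.mpr fun g _ => hall g
  rw [this, Subgroup.card_top] at hE4
  rw [hcardM, hE4]

end Cfsg.Agent.Sharply
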