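import Cfsg.Agent.Sharply.Automs

/-!
Jordan's theorem: a sharply 4-transitive group has degree 4, 5, 6 or 11.
-/

set_option autoImplicit false

namespace Cfsg.Agent.Sharply

open MulAction

/-- Four points are pairwise distinct. -/
def Distinct4 {α : Type*} (a b c d : α) : Prop :=
  a ≠ b ∧ a ≠ c ∧ a ≠ d ∧ b ≠ c ∧ b ≠ d ∧ c ≠ d

variable {G α : Type*} [Group G] [MulAction G α]

/-- Data of a sharply 4-transitive action. -/
structure IsSharpFour (G α : Type*) [Group G] [MulAction G α] : Prop where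
  key : ∀ g : G, ∀ a b c d : α, Distinct4 a b c d →
    g • a = a → g • b = b → g • c = c → g • d = d → g = 1
  trans : ∀ a b c d a' b' c' d' : α, Distinct4 a b c d → Distinct4 a' b' c' d' →
    ∃ g : G, g • a = a' ∧ g • b = b' ∧ g • c = c' ∧ g • d = d'

theorem IsSharpFour.ext4 (h : IsSharpFour G α) {g k : G} {a b c d : α} (hd : Distinct4 a b c d)
    (ha : g • a = k • a) (hb : g • b = k • b) (hc : g • c = k • c) (hd' : g • d = k • d) :
    g = k := by
  have := h.key (k⁻¹ * g) a b c d hd (by rw [mul_smul, ha, inv_smul_smul])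
    (by rw [mul_smul, hb, inv_smul_smul]) (by rw [mul_smul, hc, inv_smul_smul])
    (by rw [mul_smul, hd', inv_smul_smul])
  exact (inv_mul_eq_one.mp this).symm

theorem IsSharpFour.finite (h : IsSharpFour G α) [Finite α] {a b c d : α}
    (hd : Distinct4 a b c d) : Finite G :=
  Finite.of_injective (fun g : G => (g • a, g • b, g • c, g • d)) fun g k hgk => by
    simp only [Prod.mk.injEq] at hgk
    exact h.ext4 hd hgk.1 hgk.2.1 hgk.2.2.1 hgk.2.2.2

variable [Fintype α] [DecidableEq α]

/-- The fixed points of an element. -/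
def fixSet (g : G) : Finset α := Finset.univ.filter fun a => g • a = a

theorem mem_fixSet {g : G} {a : α} : a ∈ fixSet g ↔ g • a = a := by simp [fixSet]

theorem IsSharpFour.card_fixSet_le (h : IsSharpFour G α) {g : G} (hg : g ≠ 1) :
    (fixSet g : Finset α).card ≤ 3 := by
  by_contra hc
  obtain ⟨s, hs, hs4⟩ := Finset.exists_subset_card_eq (s := (fixSet g : Finset α)) (n := 4) (by omega)
  obtain ⟨a, b, c, d, hab, hac, had, hbc, hbd, hcd, rfl⟩ := Finset.card_eq_four.mp hs4
  simp only [Finset.insert_subset_iff, Finset.singleton_subset_iff, mem_fixSet] at hs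
  exact hg (h.key g a b c d ⟨hab, hac, had, hbc, hbd, hcd⟩ hs.1 hs.2.1 hs.2.2.1 hs.2.2.2)

theorem card_fixSet_mod_two {g : G} (hg : g * g = 1) :
    (fixSet g : Finset α).card % 2 = Fintype.card α % 2 := by
  have : Fact (Nat.Prime 2) := ⟨Nat.prime_two⟩
  have hσ : (toPermHom G α g) ^ 2 ^ 1 = 1 := by
    rw [pow_one, ← map_pow, pow_two, hg, map_one]
  have h1 := Equiv.Perm.card_compl_support_modEq (p := 2) (n := 1) hσ
  have h2 : (fixSet g : Finset α) = (toPermHom G α g).supportᶜ := by
    ext a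
    simp [mem_fixSet]
  rw [h2]
  exact h1

theorem IsSharpFour.card_fixSet_invol (h : IsSharpFour G α) {g : G} (hg : g * g = 1)
    (hg1 : g ≠ 1) {a b : α} (hab : a ≠ b) (ha : g • a = a) (hb : g • b = b) :
    (fixSet g : Finset α).card = if Fintype.card α % 2 = 0 then 2 else 3 := by
  have h1 := h.card_fixSet_le hg1
  have h2 := card_fixSet_mod_two (α := α) hg
  have h3 : 2 ≤ (fixSet g : Finset α).card := by
    rw [← Finset.card_pair hab]
    apply Finset.card_le_card
    intro x hx
    simp only [Finset.mem_insert, Finset.mem_singleton] at hx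
    rcases hx with rfl | rfl <;> simp [mem_fixSet, ha, hb]
  split <;> omega

/-- The even degree case. -/
theorem IsSharpFour.even_case (h : IsSharpFour G α) (heven : Fintype.card α % 2 = 0)
    (h4 : 4 ≤ Fintype.card α) : Fintype.card α ≤ 6 := by
  classical
  obtain ⟨s, -, hs4⟩ := Finset.exists_subset_card_eq (s := (Finset.univ : Finset α)) (n := 4)
    (by simpa using h4)
  obtain ⟨p1, p2, p3, p4, h12, h13, h14, h23, h24, h34, -⟩ := Finset.card_eq_four.mp hs4
  have : Finite G := h.finite ⟨h12, h13, h14, h23, h24, h34⟩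
  let : Fintype G := Fintype.ofFinite G
  -- z swaps p1, p2 and fixes p3, p4
  obtain ⟨z, hz1, hz2, hz3, hz4⟩ := h.trans p1 p2 p3 p4 p2 p1 p3 p4
    ⟨h12, h13, h14, h23, h24, h34⟩ ⟨h12.symm, h23, h24, h13, h14, h34⟩
  have hzz : z * z = 1 := h.key _ p1 p2 p3 p4 ⟨h12, h13, h14, h23, h24, h34⟩
    (by rw [mul_smul, hz1, hz2]) (by rw [mul_smul, hz2, hz1])
    (by rw [mul_smul, hz3, hz3]) (by rw [mul_smul, hz4, hz4])
  have hzne : z ≠ 1 := fun hz => h12 (by rw [hz, one_smul] at hz1; exact hz1)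
  have hzfix : (fixSet z : Finset α) = {p3, p4} := by
    symm
    apply Finset.eq_of_subset_of_card_le
    · intro x hx
      simp only [Finset.mem_insert, Finset.mem_singleton] at hx
      rcases hx with rfl | rfl <;> simp [mem_fixSet, hz3, hz4]
    · rw [h.card_fixSet_invol hzz hzne h34 hz3 hz4, if_pos heven, Finset.card_pair h34]
  let C : Finset α := Finset.univ \ {p1, p2}
  have hC : ∀ a, a ∈ C ↔ a ≠ p1 ∧ a ≠ p2 := by intro a; simp [C]
  have hCcard : C.card = Fintype.card α - 2 := by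
    rw [Finset.card_sdiff_of_subset (Finset.subset_univ _), Finset.card_univ, Finset.card_pair h12]
  let F : Finset G := Finset.univ.filter fun g => g • p1 = p1 ∧ g • p2 = p2
  have hF : ∀ g, g ∈ F ↔ g • p1 = p1 ∧ g • p2 = p2 := by intro g; simp [F]
  have hFC : ∀ g ∈ F, ∀ a ∈ C, g • a ∈ C := by
    intro g hg a ha
    rw [hF] at hg
    rw [hC] at ha ⊢
    constructor <;> intro hh
    · exact ha.1 (smul_left_cancel g (hh.trans hg.1.symm))
    · exact ha.2 (smul_left_cancel g (hh.trans hg.2.symm))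
  -- card F
  have hFcard : F.card = C.card * (C.card - 1) := by
    rw [Nat.mul_sub, Nat.mul_one, ← Finset.offDiag_card]
    refine Finset.card_bij (fun g _ => (g • p3, g • p4)) ?_ ?_ ?_
    · intro g hg
      rw [Finset.mem_offDiag]
      exact ⟨hFC g hg _ ((hC _).mpr ⟨h13.symm, h23.symm⟩),
        hFC g hg _ ((hC _).mpr ⟨h14.symm, h24.symm⟩), fun hh => h34 (smul_left_cancel g hh)⟩
    · intro g hg k hk hgk
      rw [hF] at hg hk
      simp only [Prod.mk.injEq] at hgk
      exact h.ext4 ⟨h12, h13, h14, h23, h24, h34⟩ (hg.1.trans hk.1.symm) (hg.2.trans hk.2.symm)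
        hgk.1 hgk.2
    · rintro ⟨a, b⟩ hab
      rw [Finset.mem_offDiag, hC, hC] at hab
      obtain ⟨g, g1, g2, g3, g4⟩ := h.trans p1 p2 p3 p4 p1 p2 a b
        ⟨h12, h13, h14, h23, h24, h34⟩
        ⟨h12, hab.1.1.symm, hab.2.1.1.symm, hab.1.2.symm, hab.2.1.2.symm, hab.2.2⟩
      exact ⟨g, (hF g).mpr ⟨g1, g2⟩, by simp [g3, g4]⟩
  -- point stabilisers in F
  have hstab : ∀ a ∈ C, (F.filter fun g => g • a = a ∧ g ≠ 1).card = C.card - 2 := by
    intro a ha
    obtain ⟨b, hb, hba⟩ : ∃ b ∈ C, b ≠ a := Finset.exists_mem_ne (by omega) a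
    rw [hC] at ha hb
    have : ((C.erase a).erase b).card = C.card - 2 := by
      rw [Finset.card_erase_of_mem (Finset.mem_erase.mpr ⟨hba, (hC b).mpr hb⟩),
        Finset.card_erase_of_mem ((hC a).mpr ha)]
      omega
    rw [← this]
    refine Finset.card_bij (fun g _ => g • b) ?_ ?_ ?_
    · intro g hg
      simp only [Finset.mem_filter] at hg
      simp only [Finset.mem_erase]
      refine ⟨?_, ?_, hFC g hg.1 b ((hC b).mpr hb)⟩
      · intro hh
        exact hg.2.2 (h.key g p1 p2 a b ⟨h12, ha.1.symm, hb.1.symm, ha.2.symm, hb.2.symm, hba.symm⟩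
          ((hF g).mp hg.1).1 ((hF g).mp hg.1).2 hg.2.1 hh)
      · intro hh
        exact hba (smul_left_cancel g (hh.trans hg.2.1.symm))
    · intro g hg k hk hgk
      simp only [Finset.mem_filter, hF] at hg hk
      exact h.ext4 ⟨h12, ha.1.symm, hb.1.symm, ha.2.symm, hb.2.symm, hba.symm⟩
        (hg.1.1.trans hk.1.1.symm) (hg.1.2.trans hk.1.2.symm) (hg.2.1.trans hk.2.1.symm) hgk
    · intro c hc
      simp only [Finset.mem_erase, hC] at hc
      obtain ⟨g, g1, g2, g3, g4⟩ := h.trans p1 p2 a b p1 p2 a c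
        ⟨h12, ha.1.symm, hb.1.symm, ha.2.symm, hb.2.symm, hba.symm⟩
        ⟨h12, ha.1.symm, hc.2.2.1.symm, ha.2.symm, hc.2.2.2.symm, hc.2.1.symm⟩
      refine ⟨g, ?_, g4⟩
      simp only [Finset.mem_filter, hF]
      refine ⟨⟨g1, g2⟩, g3, fun hg => hc.1 ?_⟩
      rw [hg, one_smul] at g4
      exact g4.symm
  have hdisj : (C : Set α).PairwiseDisjoint fun a => F.filter fun g => g • a = a ∧ g ≠ 1 := by
    intro a ha b hb hab
    rw [Function.onFun, Finset.disjoint_left]
    intro g hga hgb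
    simp only [Finset.mem_filter, hF] at hga hgb
    rw [Finset.mem_coe, hC] at ha hb
    exact hga.2.2 (h.key g p1 p2 a b ⟨h12, ha.1.symm, hb.1.symm, ha.2.symm, hb.2.symm, hab⟩
      hga.1.1 hga.1.2 hga.2.1 hgb.2.1)
  -- an involution in F fixes nothing in C
  let T : Finset G := F.filter fun g => g * g = 1
  have hTfree : ∀ g ∈ T, g ≠ 1 → ∀ a ∈ C, g • a ≠ a := by
    intro g hg hg1 a ha hga
    simp only [T, Finset.mem_filter, hF] at hg
    rw [hC] at ha
    have h1 := h.card_fixSet_invol hg.2 hg1 h12 hg.1.1 hg.1.2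
    rw [if_pos heven] at h1
    have h2 : ({p1, p2, a} : Finset α) ⊆ fixSet g := by
      intro x hx
      simp only [Finset.mem_insert, Finset.mem_singleton] at hx
      rcases hx with rfl | rfl | rfl <;> simp [mem_fixSet, hg.1.1, hg.1.2, hga]
    have h3 := Finset.card_le_card h2
    rw [Finset.card_eq_three.mpr ⟨p1, p2, a, h12, ha.1.symm, ha.2.symm, rfl⟩] at h3
    omega
  have hTcard : C.card ≤ T.card := by
    have hex : ∀ a ∈ C, ∃ g ∈ T, g • p3 = a := by
      intro a ha
      rw [hC] at ha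
      rcases eq_or_ne a p3 with rfl | ha3
      · exact ⟨1, by simp [T, hF], one_smul _ _⟩
      · obtain ⟨g, g1, g2, g3, g4⟩ := h.trans p1 p2 p3 a p1 p2 a p3
          ⟨h12, h13, ha.1.symm, h23, ha.2.symm, ha3.symm⟩
          ⟨h12, ha.1.symm, h13, ha.2.symm, h23, ha3⟩
        refine ⟨g, ?_, g3⟩
        simp only [T, Finset.mem_filter, hF]
        exact ⟨⟨g1, g2⟩, h.key _ p1 p2 p3 a ⟨h12, h13, ha.1.symm, h23, ha.2.symm, ha3.symm⟩
          (by rw [mul_smul, g1, g1]) (by rw [mul_smul, g2, g2])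
          (by rw [mul_smul, g3, g4]) (by rw [mul_smul, g4, g3])⟩
    calc C.card ≤ (T.image fun g => g • p3).card := Finset.card_le_card (fun a ha => by
          obtain ⟨g, hg, rfl⟩ := hex a ha
          exact Finset.mem_image_of_mem _ hg)
      _ ≤ T.card := Finset.card_image_le
  -- all fixed-point-free elements are involutions
  have hcover : ∀ g ∈ F, (∀ a ∈ C, g • a = a → g = 1) → g * g = 1 := by
    intro g hg hfree
    by_contra hne
    have hd : Disjoint T (C.biUnion fun a => F.filter fun g => g • a = a ∧ g ≠ 1) := by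
      rw [Finset.disjoint_left]
      intro k hk hk'
      simp only [Finset.mem_biUnion, Finset.mem_filter] at hk'
      obtain ⟨a, ha, -, hka, hk1⟩ := hk'
      exact hTfree k hk hk1 a ha hka
    have hsub : (T ∪ C.biUnion fun a => F.filter fun g => g • a = a ∧ g ≠ 1) ⊆ F.erase g := by
      intro k hk
      simp only [T, Finset.mem_union, Finset.mem_filter, Finset.mem_biUnion] at hk
      rw [Finset.mem_erase]
      rcases hk with ⟨hk, hk2⟩ | ⟨a, ha, hk, hka, hk1⟩
      · exact ⟨fun e => hne (e ▸ hk2), hk⟩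
      · exact ⟨fun e => hk1 (e ▸ hfree a ha (e ▸ hka)), hk⟩
    have h1 := Finset.card_le_card hsub
    rw [Finset.card_union_of_disjoint hd, Finset.card_biUnion hdisj, Finset.sum_congr rfl hstab,
      Finset.sum_const, smul_eq_mul, Finset.card_erase_of_mem hg, hFcard] at h1
    have hC2 : 2 ≤ C.card := by rw [hCcard]; omega
    obtain ⟨m, hm⟩ : ∃ m, C.card = m + 2 := ⟨C.card - 2, by omega⟩
    rw [hm] at h1 hTcard
    simp only [Nat.add_sub_cancel, show m + 2 - 1 = m + 1 from rfl] at h1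
    have : (m + 2) * (m + 1) = (m + 2) * m + (m + 2) := by ring
    omega
  -- T is a subgroup
  let N : Subgroup G :=
    { carrier := {g | g ∈ T}
      one_mem' := by simp [T, hF]
      mul_mem' := by
        intro x u hx hu
        simp only [Set.mem_ofPred_eq, T, Finset.mem_filter] at hx hu ⊢
        have hxu : x * u ∈ F := by
          have hx' := (hF x).mp hx.1
          have hu' := (hF u).mp hu.1
          exact (hF _).mpr ⟨by rw [mul_smul, hu'.1, hx'.1], by rw [mul_smul, hu'.2, hx'.2]⟩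
        refine ⟨hxu, hcover _ hxu ?_⟩
        intro a ha hfix
        by_cases hu1 : u = 1
        · subst hu1
          rw [mul_one] at hfix ⊢
          by_contra hx1
          exact hTfree x (by simp [T, hx]) hx1 a ha hfix
        have hb : u • a = x • a := by
          rw [mul_smul] at hfix
          calc u • a = x • (x • (u • a)) := by rw [← mul_smul, hx.2, one_smul]
            _ = x • a := by rw [hfix]
        have hxa : u • a ≠ a := hTfree u (by simp [T, hu]) hu1 a ha
        rw [hC] at ha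
        have hu' := (hF u).mp hu.1
        have hx' := (hF x).mp hx.1
        have hbC := (hC _).mp (hFC u hu.1 a ((hC a).mpr ha))
        have : x = u := h.ext4
          ⟨h12, ha.1.symm, hbC.1.symm, ha.2.symm, hbC.2.symm, hxa.symm⟩
          (hx'.1.trans hu'.1.symm) (hx'.2.trans hu'.2.symm) hb.symm
          (by rw [← mul_smul u u, hu.2, one_smul, hb, ← mul_smul, hx.2, one_smul])
        rw [this, hu.2]
      inv_mem' := by
        intro x hx
        simp only [Set.mem_ofPred_eq, T, Finset.mem_filter] at hx ⊢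
        rw [inv_eq_of_mul_eq_one_right hx.2]
        exact hx }
  have hN : ∀ g, g ∈ N ↔ (g • p1 = p1 ∧ g • p2 = p2) ∧ g * g = 1 := by
    intro g
    show g ∈ T ↔ _
    simp [T, hF]
  have hcomm : ∀ a b : N, a * b = b * a := by
    intro a b
    have h2 : ∀ c : N, c * c = 1 := fun c => Subtype.ext ((hN c.1).mp c.2).2
    calc a * b = (b * b) * (a * b) * (1 : N) := by rw [h2, one_mul, mul_one]
      _ = b * ((b * a) * (b * a)) * a := by rw [← h2 a]; simp only [mul_assoc]
      _ = b * a := by rw [h2, mul_one]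
  have hzN : ∀ g ∈ N, z * g * z ∈ N := by
    intro g hg
    rw [hN] at hg ⊢
    refine ⟨⟨by rw [mul_smul, mul_smul, hz1, hg.1.2, hz2],
      by rw [mul_smul, mul_smul, hz2, hg.1.1, hz1]⟩, ?_⟩
    calc z * g * z * (z * g * z) = z * g * (z * z) * g * z := by group
      _ = z * (g * g) * z := by rw [hzz]; group
      _ = 1 := by rw [hg.2, mul_one, hzz]
  let f : N →* N :=
    { toFun := fun g => g * ⟨z * g.1 * z, hzN _ g.2⟩
      map_one' := by ext; simp [hzz]
      map_mul' := by
        intro a b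
        have hsplit : (⟨z * (a * b : N).1 * z, hzN _ (a * b).2⟩ : N) =
            ⟨z * a.1 * z, hzN _ a.2⟩ * ⟨z * b.1 * z, hzN _ b.2⟩ := by
          apply Subtype.ext
          show z * (a.1 * b.1) * z = z * a.1 * z * (z * b.1 * z)
          calc z * (a.1 * b.1) * z = z * a.1 * 1 * b.1 * z := by group
            _ = z * a.1 * (z * z) * b.1 * z := by rw [hzz]
            _ = z * a.1 * z * (z * b.1 * z) := by group
        rw [hsplit, mul_assoc a b, ← mul_assoc b, hcomm b ⟨z * a.1 * z, _⟩]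
        simp only [mul_assoc] }
  -- elements of N commuting with z are few
  let S := {g : N // z * g.1 * z = g.1}
  have hS : Nat.card S ≤ 2 := by
    let φ : S → (fixSet z : Finset α) := fun g => ⟨g.1.1 • p3, by
      rw [mem_fixSet]
      have h1 : z • g.1.1 • z • p3 = g.1.1 • p3 := by rw [← mul_smul, ← mul_smul, g.2]
      rwa [hz3] at h1⟩
    have hφ : Function.Injective φ := by
      rintro ⟨⟨a, ha⟩, _⟩ ⟨⟨b, hb⟩, _⟩ hab
      have hab' : a • p3 = b • p3 := congrArg Subtype.val hab
      rw [hN] at ha hb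
      apply Subtype.ext
      apply Subtype.ext
      show a = b
      by_cases hb3 : b • p3 = p3
      · rw [hb3] at hab'
        have e1 : a = 1 := by
          by_contra hne
          exact hTfree a (by simp [T, hF, ha]) hne p3 ((hC _).mpr ⟨h13.symm, h23.symm⟩) hab'
        have e2 : b = 1 := by
          by_contra hne
          exact hTfree b (by simp [T, hF, hb]) hne p3 ((hC _).mpr ⟨h13.symm, h23.symm⟩) hb3
        rw [e1, e2]
      · have hbC : b • p3 ∈ C := hFC b ((hF b).mpr hb.1) p3 ((hC _).mpr ⟨h13.symm, h23.symm⟩)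
        rw [hC] at hbC
        refine h.ext4 ⟨h12, h13, hbC.1.symm, h23, hbC.2.symm, fun e => hb3 e.symm⟩
          (ha.1.1.trans hb.1.1.symm) (ha.1.2.trans hb.1.2.symm) hab' ?_
        conv_lhs => rw [← hab', ← mul_smul, ha.2, one_smul]
        rw [← mul_smul, hb.2, one_smul]
    have := Nat.card_le_card_of_injective φ hφ
    rw [Nat.card_eq_finsetCard, hzfix, Finset.card_pair h34] at this
    exact this
  have hk : Nat.card f.ker ≤ 2 := by
    refine le_trans (Nat.card_le_card_of_injective (β := S) (fun g => ⟨g.1, ?_⟩) ?_) hS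
    · have h1 : g.1.1 * (z * g.1.1 * z) = 1 := congrArg Subtype.val (MonoidHom.mem_ker.mp g.2)
      calc z * g.1.1 * z = g.1.1 * g.1.1 * (z * g.1.1 * z) := by
            rw [((hN _).mp g.1.2).2, one_mul]
        _ = g.1.1 := by rw [mul_assoc, h1, mul_one]
    · intro a b hab
      exact Subtype.ext (congrArg (fun t : S => t.1) hab)
  have hr : Nat.card f.range ≤ 2 := by
    refine le_trans (Nat.card_le_card_of_injective (β := S) (fun g => ⟨g.1, ?_⟩) ?_) hS
    · obtain ⟨a, ha⟩ := g.2
      rw [← ha]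
      show z * (a.1 * (z * a.1 * z)) * z = a.1 * (z * a.1 * z)
      have h1 : (z * a.1 * z) * a.1 = a.1 * (z * a.1 * z) :=
        congrArg Subtype.val (hcomm ⟨_, hzN _ a.2⟩ a)
      calc z * (a.1 * (z * a.1 * z)) * z = (z * a.1 * z) * a.1 * (z * z) := by group
        _ = a.1 * (z * a.1 * z) := by rw [hzz, mul_one, h1]
    · intro a b hab
      exact Subtype.ext (congrArg (fun t : S => t.1) hab)
  have hNcard : Nat.card N = Nat.card f.range * Nat.card f.ker := by
    rw [← Subgroup.index_ker, Subgroup.index_mul_card]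
  have hNT : Nat.card N = T.card := by
    rw [← Nat.card_eq_finsetCard T]
    exact Nat.card_congr (Equiv.subtypeEquivRight fun g => Iff.rfl)
  have : Nat.card N ≤ 4 := by
    rw [hNcard]; exact Nat.mul_le_mul hr hk
  omega

/-- The odd degree case. -/
theorem IsSharpFour.odd_case (h : IsSharpFour G α) (hodd : Fintype.card α % 2 = 1)
    (h4 : 4 ≤ Fintype.card α) : Fintype.card α = 5 ∨ Fintype.card α = 11 := by
  classical
  obtain ⟨s, -, hs4⟩ := Finset.exists_subset_card_eq (s := (Finset.univ : Finset α)) (n := 4)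
    (by simpa using h4)
  obtain ⟨p1, p2, p3, p4, h12, h13, h14, h23, h24, h34, -⟩ := Finset.card_eq_four.mp hs4
  have hd : Distinct4 p1 p2 p3 p4 := ⟨h12, h13, h14, h23, h24, h34⟩
  have : Finite G := h.finite hd
  let : Fintype G := Fintype.ofFinite G
  have hoddif : ¬ Fintype.card α % 2 = 0 := by omega
  obtain ⟨x, hx1, hx2, hx3, hx4⟩ := h.trans p1 p2 p3 p4 p1 p2 p4 p3 hd
    ⟨h12, h14, h13, h24, h23, h34.symm⟩
  have hxx : x * x = 1 := h.key _ p1 p2 p3 p4 hd (by rw [mul_smul, hx1, hx1])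
    (by rw [mul_smul, hx2, hx2]) (by rw [mul_smul, hx3, hx4]) (by rw [mul_smul, hx4, hx3])
  have hxne : x ≠ 1 := fun e => h34 (by rw [e, one_smul] at hx3; exact hx3)
  obtain ⟨z, hz1, hz2, hz3, hz4⟩ := h.trans p1 p2 p3 p4 p2 p1 p3 p4 hd
    ⟨h12.symm, h23, h24, h13, h14, h34⟩
  have hzz : z * z = 1 := h.key _ p1 p2 p3 p4 hd (by rw [mul_smul, hz1, hz2])
    (by rw [mul_smul, hz2, hz1]) (by rw [mul_smul, hz3, hz3]) (by rw [mul_smul, hz4, hz4])
  have hzne : z ≠ 1 := fun e => h12 (by rw [e, one_smul] at hz1; exact hz1)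
  have hzx : z * x = x * z := h.ext4 hd (by rw [mul_smul, mul_smul, hx1, hz1, hx2])
    (by rw [mul_smul, mul_smul, hx2, hz2, hx1]) (by rw [mul_smul, mul_smul, hx3, hz4, hz3, hx3])
    (by rw [mul_smul, mul_smul, hx4, hz3, hz4, hx4])
  -- the third fixed point of x
  have hxcard := h.card_fixSet_invol hxx hxne h12 hx1 hx2
  rw [if_neg hoddif] at hxcard
  obtain ⟨p5, hp5, hp5'⟩ : ∃ p5 ∈ (fixSet x : Finset α), p5 ∉ ({p1, p2} : Finset α) := by
    apply Finset.exists_mem_notMem_of_card_lt_card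
    rw [hxcard, Finset.card_pair h12]
    omega
  rw [mem_fixSet] at hp5
  simp only [Finset.mem_insert, Finset.mem_singleton, not_or, ← ne_eq] at hp5'
  obtain ⟨h51, h52⟩ := hp5'
  have h53 : p5 ≠ p3 := fun e => h34 (by rw [e, hx3] at hp5; exact hp5.symm)
  have h54 : p5 ≠ p4 := fun e => h34 (by rw [e, hx4] at hp5; exact hp5)
  have hd5 : Distinct4 p1 p2 p5 p3 := ⟨h12, h51.symm, h13, h52.symm, h23, h53⟩
  have hxfix : (fixSet x : Finset α) = {p1, p2, p5} := by
    symm
    apply Finset.eq_of_subset_of_card_le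
    · intro a ha
      simp only [Finset.mem_insert, Finset.mem_singleton] at ha
      rcases ha with rfl | rfl | rfl <;> simp [mem_fixSet, hx1, hx2, hp5]
    · rw [hxcard, Finset.card_eq_three.mpr ⟨p1, p2, p5, h12, h51.symm, h52.symm, rfl⟩]
  have hz5 : z • p5 = p5 := by
    have h1 : z • p5 ∈ (fixSet x : Finset α) := by
      rw [mem_fixSet, ← mul_smul, ← hzx, mul_smul, hp5]
    rw [hxfix] at h1
    simp only [Finset.mem_insert, Finset.mem_singleton] at h1
    rcases h1 with e | e | e
    · exact absurd (smul_left_cancel z (e.trans hz2.symm)) h52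
    · exact absurd (smul_left_cancel z (e.trans hz1.symm)) h51
    · exact e
  let M : Subgroup G := stabilizer G p1 ⊓ stabilizer G p2 ⊓ stabilizer G p5
  have hM : ∀ g, g ∈ M ↔ (g • p1 = p1 ∧ g • p2 = p2) ∧ g • p5 = p5 := by
    intro g; simp [M, Subgroup.mem_inf, mem_stabilizer_iff]
  have hxM : x ∈ M := (hM x).mpr ⟨⟨hx1, hx2⟩, hp5⟩
  let R : Finset α := Finset.univ \ {p1, p2, p5}
  have hR : ∀ a, a ∈ R ↔ a ≠ p1 ∧ a ≠ p2 ∧ a ≠ p5 := by intro a; simp [R]
  have hRcard : R.card = Fintype.card α - 3 := by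
    rw [Finset.card_sdiff_of_subset (Finset.subset_univ _), Finset.card_univ,
      Finset.card_eq_three.mpr ⟨p1, p2, p5, h12, h51.symm, h52.symm, rfl⟩]
  have hMp3 : ∀ g ∈ M, g • p3 ∈ R := by
    intro g hg
    rw [hM] at hg
    rw [hR]
    refine ⟨fun e => h13 ?_, fun e => h23 ?_, fun e => h53 ?_⟩
    · exact (smul_left_cancel g (e.trans hg.1.1.symm)).symm
    · exact (smul_left_cancel g (e.trans hg.1.2.symm)).symm
    · exact (smul_left_cancel g (e.trans hg.2.symm)).symm
  have hMinj : ∀ g ∈ M, ∀ k ∈ M, g • p3 = k • p3 → g = k := by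
    intro g hg k hk e
    rw [hM] at hg hk
    exact h.ext4 hd5 (hg.1.1.trans hk.1.1.symm) (hg.1.2.trans hk.1.2.symm)
      (hg.2.trans hk.2.symm) e
  have hMcard : Nat.card M = Fintype.card α - 3 := by
    rw [← hRcard, ← Nat.card_eq_finsetCard]
    refine Nat.card_congr (Equiv.ofBijective (fun g : M => (⟨g.1 • p3, hMp3 _ g.2⟩ : R)) ⟨?_, ?_⟩)
    · intro a b hab
      exact Subtype.ext (hMinj _ a.2 _ b.2 (congrArg Subtype.val hab))
    · rintro ⟨a, ha⟩
      rw [hR] at ha
      obtain ⟨g, g1, g2, g5, g3⟩ := h.trans p1 p2 p5 p3 p1 p2 p5 a hd5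
        ⟨h12, h51.symm, ha.1.symm, h52.symm, ha.2.1.symm, ha.2.2.symm⟩
      exact ⟨⟨g, (hM g).mpr ⟨⟨g1, g2⟩, g5⟩⟩, Subtype.ext g3⟩
  -- uniqueness of the involution of M
  have huniq : ∀ u ∈ M, u * u = 1 → u = 1 ∨ u = x := by
    let C : Finset α := Finset.univ \ {p1, p2}
    have hC : ∀ a, a ∈ C ↔ a ≠ p1 ∧ a ≠ p2 := by intro a; simp [C]
    let I : Finset G :=
      Finset.univ.filter fun g => ((g • p1 = p1 ∧ g • p2 = p2) ∧ g * g = 1) ∧ g ≠ 1
    have hI : ∀ g, g ∈ I ↔ ((g • p1 = p1 ∧ g • p2 = p2) ∧ g * g = 1) ∧ g ≠ 1 := by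
      intro g; simp [I]
    have hone : ∀ g ∈ I, ∀ a ∈ C, ∀ b ∈ C, g • a = a → g • b = b → a = b := by
      intro g hg a ha b hb hga hgb
      rw [hI] at hg
      rw [hC] at ha hb
      by_contra hab
      exact hg.2 (h.key g p1 p2 a b ⟨h12, ha.1.symm, hb.1.symm, ha.2.symm, hb.2.symm, hab⟩
        hg.1.1.1 hg.1.1.2 hga hgb)
    have hex : ∀ g ∈ I, ∃ a ∈ C, g • a = a := by
      intro g hg
      rw [hI] at hg
      have hc := h.card_fixSet_invol hg.1.2 hg.2 h12 hg.1.1.1 hg.1.1.2
      rw [if_neg hoddif] at hc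
      obtain ⟨a, ha, ha'⟩ : ∃ a ∈ (fixSet g : Finset α), a ∉ ({p1, p2} : Finset α) := by
        apply Finset.exists_mem_notMem_of_card_lt_card
        rw [hc, Finset.card_pair h12]
        omega
      simp only [Finset.mem_insert, Finset.mem_singleton, not_or, ← ne_eq] at ha'
      exact ⟨a, (hC a).mpr ha', mem_fixSet.mp ha⟩
    have hp5C : p5 ∈ C := (hC _).mpr ⟨h51, h52⟩
    have hsame : ∀ a ∈ C,
        (I.filter fun g => g • a = a).card = (I.filter fun g => g • p5 = p5).card := by
      intro a ha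
      rw [hC] at ha
      obtain ⟨b, hb⟩ : ∃ b, b ∉ ({p1, p2, a} : Finset α) := by
        by_contra hall
        push Not at hall
        have := Finset.card_le_card (fun t (_ : t ∈ (Finset.univ : Finset α)) => hall t)
        rw [Finset.card_univ] at this
        have := this.trans Finset.card_le_three
        omega
      simp only [Finset.mem_insert, Finset.mem_singleton, not_or, ← ne_eq] at hb
      obtain ⟨k, k1, k2, k5, -⟩ := h.trans p1 p2 p5 p3 p1 p2 a b hd5
        ⟨h12, ha.1.symm, hb.1.symm, ha.2.symm, hb.2.1.symm, Ne.symm hb.2.2⟩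
      have k1' : k⁻¹ • p1 = p1 := inv_smul_eq_iff.mpr k1.symm
      have k2' : k⁻¹ • p2 = p2 := inv_smul_eq_iff.mpr k2.symm
      have k5' : k⁻¹ • a = p5 := inv_smul_eq_iff.mpr k5.symm
      have hconj : ∀ g k : G, g ∈ I → k • p1 = p1 → k • p2 = p2 → k * g * k⁻¹ ∈ I := by
        intro g k hg k1 k2
        rw [hI] at hg ⊢
        have k1' : k⁻¹ • p1 = p1 := inv_smul_eq_iff.mpr k1.symm
        have k2' : k⁻¹ • p2 = p2 := inv_smul_eq_iff.mpr k2.symm
        refine ⟨⟨⟨?_, ?_⟩, ?_⟩, ?_⟩
        · rw [mul_smul, mul_smul, k1', hg.1.1.1, k1]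
        · rw [mul_smul, mul_smul, k2', hg.1.1.2, k2]
        · calc k * g * k⁻¹ * (k * g * k⁻¹) = k * (g * g) * k⁻¹ := by group
            _ = 1 := by rw [hg.1.2, mul_one, mul_inv_cancel]
        · intro e
          exact hg.2 (conj_eq_one_iff.mp e)
      symm
      refine Finset.card_bij (fun g _ => k * g * k⁻¹) ?_ ?_ ?_
      · intro g hg
        simp only [Finset.mem_filter] at hg ⊢
        exact ⟨hconj g k hg.1 k1 k2, by rw [mul_smul, mul_smul, k5', hg.2, k5]⟩
      · intro g _ g' _ e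
        exact mul_left_cancel (mul_right_cancel e)
      · intro g hg
        simp only [Finset.mem_filter] at hg
        refine ⟨k⁻¹ * g * k, ?_, by group⟩
        simp only [Finset.mem_filter]
        refine ⟨?_, by rw [mul_smul, mul_smul, k5, hg.2, k5']⟩
        have := hconj g k⁻¹ hg.1 k1' k2'
        rwa [inv_inv] at this
    have hIeq : I = C.biUnion fun a => I.filter fun g => g • a = a := by
      ext g
      simp only [Finset.mem_biUnion, Finset.mem_filter]
      constructor
      · intro hg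
        obtain ⟨a, ha, hga⟩ := hex g hg
        exact ⟨a, ha, hg, hga⟩
      · rintro ⟨a, -, hg, -⟩; exact hg
    have hcard1 : I.card = C.card * (I.filter fun g => g • p5 = p5).card := by
      conv_lhs => rw [hIeq]
      rw [Finset.card_biUnion, Finset.sum_congr rfl hsame, Finset.sum_const, smul_eq_mul]
      intro a ha b hb hab
      rw [Function.onFun, Finset.disjoint_left]
      intro g hga hgb
      simp only [Finset.mem_filter] at hga hgb
      exact hab (hone g hga.1 a ha b hb hga.2 hgb.2)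
    have hcard2 : I.card ≤ (I.filter fun g => g • p5 = p5).card + (C.card - 1) := by
      have := Finset.card_filter_add_card_filter_not (s := I) (fun g => g • p5 = p5)
      have h2 : (I.filter fun g => ¬ g • p5 = p5).card ≤ (C.erase p5).card := by
        refine Finset.card_le_card_of_injOn (fun g => g • p5) ?_ ?_
        · intro g hg
          simp only [Finset.coe_filter, Set.mem_ofPred_eq, hI] at hg
          simp only [Finset.coe_erase, Set.mem_diff, Finset.mem_coe, Set.mem_singleton_iff, hC]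
          refine ⟨⟨fun e => h51 ?_, fun e => h52 ?_⟩, hg.2⟩
          · exact smul_left_cancel g (e.trans hg.1.1.1.1.symm)
          · exact smul_left_cancel g (e.trans hg.1.1.1.2.symm)
        · intro g hg k hk e
          simp only [Finset.coe_filter, Set.mem_ofPred_eq, hI] at hg hk
          have e' : g • p5 = k • p5 := e
          refine h.ext4 (a := p1) (b := p2) (c := p5) (d := g • p5) ?_ (hg.1.1.1.1.trans hk.1.1.1.1.symm)
            (hg.1.1.1.2.trans hk.1.1.1.2.symm) e' ?_
          · refine ⟨h12, h51.symm, fun ee => h51 ?_, h52.symm, fun ee => h52 ?_, fun ee => hg.2 ee.symm⟩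
            · exact smul_left_cancel g (ee.symm.trans hg.1.1.1.1.symm)
            · exact smul_left_cancel g (ee.symm.trans hg.1.1.1.2.symm)
          · conv_lhs => rw [← mul_smul, hg.1.1.2, one_smul]
            rw [e', ← mul_smul, hk.1.1.2, one_smul]
      rw [Finset.card_erase_of_mem hp5C] at h2
      omega
    have hC2 : 2 ≤ C.card := by
      rw [Finset.card_sdiff_of_subset (Finset.subset_univ _), Finset.card_univ,
        Finset.card_pair h12]
      omega
    have hk : (I.filter fun g => g • p5 = p5).card ≤ 1 := by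
      by_contra hk
      obtain ⟨m, hm⟩ : ∃ m, C.card = m + 2 := ⟨C.card - 2, by omega⟩
      rw [hm] at hcard1 hcard2
      simp only [show m + 2 - 1 = m + 1 from rfl] at hcard2
      generalize (I.filter fun g => g • p5 = p5).card = k at hcard1 hcard2 hk
      nlinarith
    intro u hu huu
    by_cases hu1 : u = 1
    · exact Or.inl hu1
    right
    rw [hM] at hu
    exact Finset.card_le_one.mp hk u (by simp [hI, hu.1, huu, hu1, hu.2]) x
      (by simp [hI, hx1, hx2, hxx, hxne, hp5])
  -- w permutes p1, p2, p5 cyclically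
  obtain ⟨w, hw1, hw2, hw5, hw3⟩ := h.trans p1 p2 p5 p3 p2 p5 p1 p3 hd5
    ⟨h52.symm, h12.symm, h23, h51, h53, h13⟩
  have hw1' : w⁻¹ • p2 = p1 := inv_smul_eq_iff.mpr hw1.symm
  have hw2' : w⁻¹ • p5 = p2 := inv_smul_eq_iff.mpr hw2.symm
  have hw5' : w⁻¹ • p1 = p5 := inv_smul_eq_iff.mpr hw5.symm
  have hw3' : w⁻¹ • p3 = p3 := inv_smul_eq_iff.mpr hw3.symm
  have hwxw : w * x * w⁻¹ = x := by
    rcases huniq (w * x * w⁻¹) ((hM _).mpr ⟨⟨by rw [mul_smul, mul_smul, hw5', hp5, hw5],
      by rw [mul_smul, mul_smul, hw1', hx1, hw1]⟩, by rw [mul_smul, mul_smul, hw2', hx2, hw2]⟩)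
      (by calc w * x * w⁻¹ * (w * x * w⁻¹) = w * (x * x) * w⁻¹ := by group
            _ = 1 := by rw [hxx, mul_one, mul_inv_cancel]) with e | e
    · exact absurd (conj_eq_one_iff.mp e) hxne
    · exact e
  have hwx : w * x = x * w := mul_inv_eq_iff_eq_mul.mp hwxw
  have hw4 : w • p4 = p4 := by
    calc w • p4 = w • x • p3 := by rw [hx3]
      _ = x • w • p3 := by rw [← mul_smul, hwx, mul_smul]
      _ = p4 := by rw [hw3, hx3]
  have hwne : w ≠ 1 := fun e => h12 (by rw [e, one_smul] at hw1; exact hw1)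
  have hw3pow : w * w * w = 1 := h.key _ p1 p2 p5 p3 hd5
    (by rw [mul_smul, mul_smul, hw1, hw2, hw5]) (by rw [mul_smul, mul_smul, hw2, hw5, hw1])
    (by rw [mul_smul, mul_smul, hw5, hw1, hw2]) (by rw [mul_smul, mul_smul, hw3, hw3, hw3])
  have hzwz : z * w * z = w⁻¹ := h.ext4 hd5
    (by rw [mul_smul, mul_smul, hz1, hw2, hz5, hw5'])
    (by rw [mul_smul, mul_smul, hz2, hw1, hz2, hw1'])
    (by rw [mul_smul, mul_smul, hz5, hw5, hz1, hw2'])
    (by rw [mul_smul, mul_smul, hz3, hw3, hz3, hw3'])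
  -- the induced automorphisms of M
  have hnorm : ∀ g : G, (∀ a : α, a = p1 ∨ a = p2 ∨ a = p5 → g⁻¹ • a = p1 ∨ g⁻¹ • a = p2 ∨ g⁻¹ • a = p5) →
      ∀ m ∈ M, g * m * g⁻¹ ∈ M := by
    intro g hg m hm
    rw [hM] at hm ⊢
    have : ∀ a : α, a = p1 ∨ a = p2 ∨ a = p5 → (g * m * g⁻¹) • a = a := by
      intro a ha
      rw [mul_smul, mul_smul]
      rcases hg a ha with e | e | e <;> rw [e]
      · rw [hm.1.1, ← e, smul_inv_smul]
      · rw [hm.1.2, ← e, smul_inv_smul]
      · rw [hm.2, ← e, smul_inv_smul]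
    exact ⟨⟨this p1 (by simp), this p2 (by simp)⟩, this p5 (by simp)⟩
  have hzinv : z⁻¹ = z := inv_eq_of_mul_eq_one_right hzz
  have hzN : ∀ m ∈ M, z * m * z⁻¹ ∈ M := by
    apply hnorm
    rw [hzinv]
    rintro a (rfl | rfl | rfl) <;> simp [hz1, hz2, hz5]
  have hwN : ∀ m ∈ M, w * m * w⁻¹ ∈ M := by
    apply hnorm
    rintro a (rfl | rfl | rfl) <;> simp [hw1', hw2', hw5']
  have hwN' : ∀ m ∈ M, w⁻¹ * m * w ∈ M := by
    intro m hm
    have := hnorm w⁻¹ (by rw [inv_inv]; rintro a (rfl | rfl | rfl) <;> simp [hw1, hw2, hw5]) m hm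
    rwa [inv_inv] at this
  let Z : MulAut M :=
    { toFun := fun m => ⟨z * m.1 * z⁻¹, hzN _ m.2⟩
      invFun := fun m => ⟨z * m.1 * z⁻¹, hzN _ m.2⟩
      left_inv := fun m => Subtype.ext (by
        show z * (z * m.1 * z⁻¹) * z⁻¹ = m.1
        calc z * (z * m.1 * z⁻¹) * z⁻¹ = (z * z) * m.1 * (z * z)⁻¹ := by group
          _ = m.1 := by rw [hzz]; group)
      right_inv := fun m => Subtype.ext (by
        show z * (z * m.1 * z⁻¹) * z⁻¹ = m.1
        calc z * (z * m.1 * z⁻¹) * z⁻¹ = (z * z) * m.1 * (z * z)⁻¹ := by group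
          _ = m.1 := by rw [hzz]; group)
      map_mul' := fun a b => Subtype.ext (by
        show z * (a.1 * b.1) * z⁻¹ = z * a.1 * z⁻¹ * (z * b.1 * z⁻¹)
        group) }
  let W : MulAut M :=
    { toFun := fun m => ⟨w * m.1 * w⁻¹, hwN _ m.2⟩
      invFun := fun m => ⟨w⁻¹ * m.1 * w, hwN' _ m.2⟩
      left_inv := fun m => Subtype.ext (by show w⁻¹ * (w * m.1 * w⁻¹) * w = m.1; group)
      right_inv := fun m => Subtype.ext (by show w * (w⁻¹ * m.1 * w) * w⁻¹ = m.1; group)
      map_mul' := fun a b => Subtype.ext (by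
        show w * (a.1 * b.1) * w⁻¹ = w * a.1 * w⁻¹ * (w * b.1 * w⁻¹)
        group) }
  have hzcard := h.card_fixSet_invol hzz hzne h34 hz3 hz4
  rw [if_neg hoddif] at hzcard
  have hzfix : (fixSet z : Finset α) = {p3, p4, p5} := by
    symm
    apply Finset.eq_of_subset_of_card_le
    · intro a ha
      simp only [Finset.mem_insert, Finset.mem_singleton] at ha
      rcases ha with rfl | rfl | rfl <;> simp [mem_fixSet, hz3, hz4, hz5]
    · rw [hzcard, Finset.card_eq_three.mpr ⟨p3, p4, p5, h34, h53.symm, h54.symm, rfl⟩]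
  let xM : M := ⟨x, hxM⟩
  have hWx : W xM = xM := Subtype.ext hwxw
  have hW2 : ∀ g, W g = g → g = 1 ∨ g = xM := by
    intro g hg
    have hg' : w * g.1 * w⁻¹ = g.1 := congrArg Subtype.val hg
    have hfix : ∀ k : G, w * k = k * w → k • p3 ∈ (fixSet w : Finset α) := by
      intro k hk
      rw [mem_fixSet, ← mul_smul, hk, mul_smul, hw3]
    by_contra hne
    push Not at hne
    have hgc : w * g.1 = g.1 * w := mul_inv_eq_iff_eq_mul.mp hg'
    have hgxc : w * (g.1 * x) = g.1 * x * w := by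
      rw [← mul_assoc, hgc, mul_assoc, hwx, ← mul_assoc]
    have hcard : ({p3, p4, g.1 • p3, (g.1 * x) • p3} : Finset α).card = 4 := by
      have e1 : p3 ≠ g.1 • p3 := fun e => hne.1
        (Subtype.ext (hMinj _ g.2 1 (one_mem _) (by rw [one_smul]; exact e.symm)))
      have e2 : p4 ≠ g.1 • p3 := fun e => hne.2
        (Subtype.ext (hMinj _ g.2 x hxM (by rw [hx3]; exact e.symm)))
      have e3 : p3 ≠ (g.1 * x) • p3 := fun e => hne.2 (Subtype.ext (by
        have h1 := hMinj _ (mul_mem g.2 hxM) 1 (one_mem _) (by rw [one_smul]; exact e.symm)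
        show g.1 = x
        rw [mul_eq_one_iff_eq_inv.mp h1, inv_eq_of_mul_eq_one_right hxx]))
      have e4 : p4 ≠ (g.1 * x) • p3 := fun e => hne.1 (Subtype.ext (by
        have h1 := hMinj _ (mul_mem g.2 hxM) x hxM (by rw [hx3]; exact e.symm)
        exact mul_eq_right.mp h1))
      have e5 : g.1 • p3 ≠ (g.1 * x) • p3 := by
        rw [mul_smul, hx3]
        exact fun e => h34 (smul_left_cancel _ e)
      exact Finset.card_eq_four.mpr ⟨_, _, _, _, h34, e1, e3, e2, e4, e5, rfl⟩
    have := Finset.card_le_card (s := ({p3, p4, g.1 • p3, (g.1 * x) • p3} : Finset α))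
      (t := fixSet w) (by
        intro a ha
        simp only [Finset.mem_insert, Finset.mem_singleton] at ha
        rcases ha with rfl | rfl | rfl | rfl
        · exact mem_fixSet.mpr hw3
        · exact mem_fixSet.mpr hw4
        · exact hfix _ hgc
        · exact hfix _ hgxc)
    have := h.card_fixSet_le hwne (α := α)
    omega
  have hZf : ∀ g, Z g = g → g = 1 ∨ g = xM := by
    intro g hg
    have hg' : z * g.1 * z⁻¹ = g.1 := congrArg Subtype.val hg
    have h1 : g.1 • p3 ∈ (fixSet z : Finset α) := by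
      rw [mem_fixSet]
      calc z • g.1 • p3 = (z * g.1 * z⁻¹) • z • p3 := by
            rw [← mul_smul, ← mul_smul]; congr 1; group
        _ = g.1 • p3 := by rw [hg', hz3]
    rw [hzfix] at h1
    simp only [Finset.mem_insert, Finset.mem_singleton] at h1
    rcases h1 with e | e | e
    · exact Or.inl (Subtype.ext (hMinj _ g.2 1 (one_mem _) (by rw [one_smul, e])))
    · exact Or.inr (Subtype.ext (hMinj _ g.2 x hxM (by rw [hx3, e])))
    · exact absurd e ((hR _).mp (hMp3 _ g.2)).2.2
  -- fixed points of y = x * z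
  let y : G := x * z
  have hyfix : Nat.card {g : M // Z g = g * xM} ≤ 2 := by
    have hyy : y * y = 1 := by
      calc x * z * (x * z) = x * (z * x) * z := by group
        _ = 1 := by rw [hzx, ← mul_assoc, hxx, one_mul, hzz]
    have hy1 : y • p1 = p2 := by rw [mul_smul, hz1, hx2]
    have hy5 : y • p5 = p5 := by rw [mul_smul, hz5, hp5]
    have hyne : y ≠ 1 := fun e => h12 (by rw [e, one_smul] at hy1; exact hy1)
    let φ : {g : M // Z g = g * xM} → ((fixSet y : Finset α).erase p5 : Finset α) := fun g =>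
      ⟨g.1.1 • p3, by
        rw [Finset.mem_erase, mem_fixSet]
        refine ⟨((hR _).mp (hMp3 _ g.1.2)).2.2, ?_⟩
        have hg : z * g.1.1 * z⁻¹ = g.1.1 * x := congrArg Subtype.val g.2
        have hxc : x * g.1.1 = g.1.1 * x := by
          rcases huniq (g.1.1 * x * g.1.1⁻¹) (mul_mem (mul_mem g.1.2 hxM) (inv_mem g.1.2))
            (by calc g.1.1 * x * g.1.1⁻¹ * (g.1.1 * x * g.1.1⁻¹)
                    = g.1.1 * (x * x) * g.1.1⁻¹ := by group
                  _ = 1 := by rw [hxx, mul_one, mul_inv_cancel]) with e | e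
          · exact absurd (conj_eq_one_iff.mp e) hxne
          · exact (mul_inv_eq_iff_eq_mul.mp e).symm
        calc y • g.1.1 • p3 = (x * (z * g.1.1 * z⁻¹)) • z • p3 := by
              rw [← mul_smul, ← mul_smul]; congr 1; show x * z * g.1.1 = _; group
          _ = (g.1.1 * x * x) • p3 := by rw [hg, hz3, ← mul_assoc, hxc]
          _ = g.1.1 • p3 := by rw [mul_assoc, hxx, mul_one]⟩
    have hφ : Function.Injective φ := by
      intro a b hab
      exact Subtype.ext (Subtype.ext (hMinj _ a.1.2 _ b.1.2 (congrArg Subtype.val hab)))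
    have := Nat.card_le_card_of_injective φ hφ
    rw [Nat.card_eq_finsetCard, Finset.card_erase_of_mem (mem_fixSet.mpr hy5)] at this
    have := h.card_fixSet_le hyne (α := α)
    omega
  have hrel : ∀ g, Z (W (Z g)) = W.symm g := by
    intro g
    apply Subtype.ext
    show z * (w * (z * g.1 * z⁻¹) * w⁻¹) * z⁻¹ = w⁻¹ * g.1 * w
    calc z * (w * (z * g.1 * z⁻¹) * w⁻¹) * z⁻¹ = (z * w * z) * g.1 * (z * w * z)⁻¹ := by group
      _ = w⁻¹ * g.1 * w := by rw [hzwz, inv_inv]
  have hW3 : ∀ g, W (W (W g)) = g := by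
    intro g
    apply Subtype.ext
    show w * (w * (w * g.1 * w⁻¹) * w⁻¹) * w⁻¹ = g.1
    calc w * (w * (w * g.1 * w⁻¹) * w⁻¹) * w⁻¹ = (w * w * w) * g.1 * (w * w * w)⁻¹ := by group
      _ = g.1 := by rw [hw3pow]; group
  have := card_two_or_eight (M := M) xM (fun e => hxne (congrArg Subtype.val e))
    (fun u hu => by
      rcases huniq u.1 u.2 (congrArg Subtype.val hu) with e | e
      · exact Or.inl (Subtype.ext e)
      · exact Or.inr (Subtype.ext e))
    (Subtype.ext hxx) Z W Z.left_inv hW3 hrel hW2 hZf hyfix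
  rw [hMcard] at this
  omega

/-- **Jordan's theorem**: the degree of a sharply 4-transitive group is 4, 5, 6 or 11. -/
theorem IsSharpFour.degree (h : IsSharpFour G α) (h4 : 4 ≤ Fintype.card α) :
    Fintype.card α = 4 ∨ Fintype.card α = 5 ∨ Fintype.card α = 6 ∨ Fintype.card α = 11 := by
  rcases Nat.mod_two_eq_zero_or_one (Fintype.card α) with hp | hp
  · have := h.even_case hp h4
    omega
  · have := h.odd_case hp h4
    omega

end Cfsg.Agent.Sharply
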